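import Cfsg.Agent.Lib.Char.SixteenNine.Local
import Mathlib

/-!
# Free elements of an abelian Sylow 2-subgroup

Automizers of abelian Sylow 2-subgroups, and elements fixed by no non-trivial automorphism of the automizer.
-/

set_option autoImplicit false
set_option linter.unusedSectionVars false
set_option linter.style.haveILetI false

namespace Cfsg.Agent.Char.FreeInv

open Cfsg

universe u

/-- A group of odd order at most fifteen is commutative. -/
theorem comm_of_odd_le {E : Type*} [Group E] [Finite E] (hodd : Odd (Nat.card E))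
    (hle : Nat.card E ≤ 15) (a b : E) : a * b = b * a := by
  obtain ⟨n, hn⟩ : ∃ n, Nat.card E = n := ⟨_, rfl⟩
  rw [hn] at hodd hle
  have hcyc : ∀ p : ℕ, p.Prime → n = p → a * b = b * a := by
    intro p hp e
    haveI := Fact.mk hp
    haveI := isCyclic_of_prime_card (α := E) (p := p) (hn.trans e)
    exact (IsMulCommutative.is_comm (M := E)).comm a b
  interval_cases n <;> first
    | exact absurd hodd (by decide)
    | skip
  · haveI := (Nat.card_eq_one_iff_unique.mp hn).1
    exact Subsingleton.elim _ _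
  · exact hcyc 3 (by norm_num) rfl
  · exact hcyc 5 (by norm_num) rfl
  · exact hcyc 7 (by norm_num) rfl
  · haveI := Fact.mk Nat.prime_three
    exact (IsPGroup.isMulCommutative_of_card_eq_prime_sq (p := 3) (by rw [hn]; norm_num)).is_comm.comm a b
  · exact hcyc 11 (by norm_num) rfl
  · exact hcyc 13 (by norm_num) rfl
  · haveI : IsCyclic E := by
      haveI := Fact.mk Nat.prime_three
      haveI := Fact.mk (show Nat.Prime 5 by norm_num)
      obtain ⟨x, hx⟩ := exists_prime_orderOf_dvd_card' (G := E) 3 (by rw [hn]; norm_num)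
      obtain ⟨y, hy⟩ := exists_prime_orderOf_dvd_card' (G := E) 5 (by rw [hn]; norm_num)
      have hnor : ∀ (p q : ℕ) [Fact p.Prime], p * q = 15 → ¬ p ∣ q → (∀ m, m ∣ q → m % p = 1 → m = 1) →
          ∀ S : Sylow p E, (S : Subgroup E).Normal := by
        intro p q _ hpq hdvd hone S
        have hS : Nat.card (S : Subgroup E) = p := by
          rw [S.card_eq_multiplicity, hn, ← hpq,
            Nat.factorization_mul (Fact.out : p.Prime).ne_zero (by rintro rfl; omega), Finsupp.add_apply,
            (Fact.out : p.Prime).factorization_self, Nat.factorization_eq_zero_of_not_dvd hdvd]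
          simp
        have hidx : (S : Subgroup E).index = q := by
          have h := (S : Subgroup E).card_mul_index
          rw [hS, hn, ← hpq] at h
          exact Nat.eq_of_mul_eq_mul_left (Fact.out : p.Prime).pos h
        have h1 := hone _ (hidx ▸ S.card_dvd_index) (by
          have := card_sylow_modEq_one p E
          rwa [Nat.ModEq, Nat.one_mod_eq_one.mpr (Fact.out : p.Prime).ne_one] at this)
        haveI := (Nat.card_eq_one_iff_unique.mp h1).1
        exact S.normal_of_subsingleton
      obtain ⟨S, hS⟩ := (IsPGroup.of_card (p := 3) (n := 1) (G := Subgroup.zpowers x)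
        (by rw [Nat.card_zpowers, hx, pow_one])).exists_le_sylow
      obtain ⟨T, hT⟩ := (IsPGroup.of_card (p := 5) (n := 1) (G := Subgroup.zpowers y)
        (by rw [Nat.card_zpowers, hy, pow_one])).exists_le_sylow
      have hdis : Disjoint (S : Subgroup E) (T : Subgroup E) :=
        IsPGroup.disjoint_of_ne (p₁ := 3) (p₂ := 5) (by norm_num) _ _ S.isPGroup' T.isPGroup'
      have hc : Commute x y := Subgroup.commute_of_normal_of_disjoint _ _
        (hnor 3 5 (by norm_num) (by norm_num) (fun m hm h => by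
          rcases (Nat.dvd_prime (by norm_num : Nat.Prime 5)).mp hm with rfl | rfl <;> omega) S)
        (hnor 5 3 (by norm_num) (by norm_num) (fun m hm h => by
          rcases (Nat.dvd_prime Nat.prime_three).mp hm with rfl | rfl <;> omega) T)
        hdis _ _ (hS (Subgroup.mem_zpowers x)) (hT (Subgroup.mem_zpowers y))
      refine isCyclic_of_orderOf_eq_card (x * y) ?_
      rw [hc.orderOf_mul_eq_mul_orderOf_of_coprime (by rw [hx, hy]; norm_num), hx, hy, hn]
    exact (IsMulCommutative.is_comm (M := E)).comm a b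

variable {G : Type u} [Group G] [Finite G]

/-- The automizer of a Sylow subgroup. -/
noncomputable def autGrp (P : Sylow 2 G) : Subgroup (MulAut (P : Subgroup G)) :=
  (P : Subgroup G).normalizerMonoidHom.range

variable {P : Sylow 2 G}

theorem mem_autGrp {α : MulAut (P : Subgroup G)} :
    α ∈ autGrp P ↔ ∃ n ∈ Subgroup.normalizer ((P : Subgroup G) : Set G),
      ∀ u : (P : Subgroup G), ((α u : (P : Subgroup G)) : G) = n * u * n⁻¹ := by
  constructor
  · rintro ⟨n, rfl⟩
    exact ⟨n, n.2, fun u => rfl⟩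
  · rintro ⟨n, hn, h⟩
    exact ⟨⟨n, hn⟩, MulEquiv.ext fun u => Subtype.ext (h u).symm⟩

theorem comm_of_isMulCommutative (hab : IsMulCommutative (P : Subgroup G)) {a b : G}
    (ha : a ∈ (P : Subgroup G)) (hb : b ∈ (P : Subgroup G)) : a * b = b * a :=
  congrArg Subtype.val (hab.is_comm.comm ⟨a, ha⟩ ⟨b, hb⟩)

theorem le_centralizer_singleton (hab : IsMulCommutative (P : Subgroup G)) {u : G}
    (hu : u ∈ (P : Subgroup G)) : (P : Subgroup G) ≤ Subgroup.centralizer ({u} : Set G) := fun _ hy =>
  Subgroup.mem_centralizer_singleton_iff.mpr (comm_of_isMulCommutative hab hy hu)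

theorem card_autGrp_dvd_index (hab : IsMulCommutative (P : Subgroup G)) :
    Nat.card (autGrp P) ∣ (P : Subgroup G).index := by
  set N := Subgroup.normalizer ((P : Subgroup G) : Set G)
  rw [autGrp, ← Subgroup.index_ker, Subgroup.normalizerMonoidHom_ker]
  refine (Subgroup.index_dvd_of_le (H := (P : Subgroup G).subgroupOf N) ?_).trans ?_
  · intro y hy
    refine Subgroup.mem_subgroupOf.mpr (Subgroup.mem_centralizer_iff.mpr fun b hb => ?_)
    exact comm_of_isMulCommutative hab hb (Subgroup.mem_subgroupOf.mp hy)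
  · exact ⟨N.index, (Subgroup.relIndex_mul_index Subgroup.le_normalizer).symm⟩

theorem odd_card_autGrp (hab : IsMulCommutative (P : Subgroup G)) : Odd (Nat.card (autGrp P)) := by
  haveI : Fact (Nat.Prime 2) := ⟨Nat.prime_two⟩
  rw [← Nat.not_even_iff_odd, even_iff_two_dvd]
  exact fun h => P.not_dvd_index (h.trans (card_autGrp_dvd_index hab))

/-- An element fixed by no non-trivial element of the automizer. -/
def IsFree (P : Sylow 2 G) (u : (P : Subgroup G)) : Prop :=
  ∀ α ∈ autGrp P, α u = u → α = 1

/-- The centralizer of a free element has a normal 2-complement. -/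
theorem hnpc_of_free (hab : IsMulCommutative (P : Subgroup G)) {u : (P : Subgroup G)} (hu : IsFree P u) :
    HasNormalPComplement 2 (Subgroup.centralizer ({(u : G)} : Set G)) := by
  haveI : Fact (Nat.Prime 2) := ⟨Nat.prime_two⟩
  set C := Subgroup.centralizer ({(u : G)} : Set G)
  have hPC := le_centralizer_singleton hab u.2
  refine Fusion.hnpc_of_normalizer_le_centralizer (P.subtype hPC) fun c hc => ?_
  have hcN : (c : G) ∈ Subgroup.normalizer ((P : Subgroup G) : Set G) := by
    rw [Subgroup.mem_normalizer_iff]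
    refine fun y => ⟨fun hy => (Subgroup.mem_normalizer_iff.1 hc ⟨y, hPC hy⟩).1 hy, fun hy => ?_⟩
    have hyC : y ∈ C := (C.mul_mem_cancel_left c.2).mp ((C.mul_mem_cancel_right (inv_mem c.2)).mp (hPC hy))
    exact (Subgroup.mem_normalizer_iff.1 hc ⟨y, hyC⟩).2 hy
  have hα := hu _ ⟨⟨c, hcN⟩, rfl⟩ (Subtype.ext (by
    show (c : G) * u * (c : G)⁻¹ = u
    rw [Subgroup.mem_centralizer_singleton_iff.mp c.2, mul_inv_cancel_right]))
  refine Subgroup.mem_centralizer_iff.mpr fun y hy => Subtype.ext ?_
  have h : (c : G) * y * (c : G)⁻¹ = (y : G) :=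
    congrArg Subtype.val (DFunLike.congr_fun hα (⟨(y : G), hy⟩ : (P : Subgroup G)))
  show (y : G) * c = c * y
  exact (mul_inv_eq_iff_eq_mul.mp h).symm

/-- An element whose centralizer has a normal 2-complement is free. -/
theorem free_of_hnpc (hab : IsMulCommutative (P : Subgroup G)) {u : (P : Subgroup G)}
    (hu : HasNormalPComplement 2 (Subgroup.centralizer ({(u : G)} : Set G))) : IsFree P u := by
  haveI : Fact (Nat.Prime 2) := ⟨Nat.prime_two⟩
  haveI := Fintype.ofFinite (Subgroup.centralizer ({(u : G)} : Set G))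
  rintro α ⟨n, rfl⟩ hfix
  have hPC := le_centralizer_singleton hab u.2
  have hnC : (n : G) ∈ Subgroup.centralizer ({(u : G)} : Set G) := by
    have h : (n : G) * u * (n : G)⁻¹ = u := congrArg Subtype.val hfix
    exact Subgroup.mem_centralizer_singleton_iff.mpr (mul_inv_eq_iff_eq_mul.mp h)
  refine MulEquiv.ext fun y => Subtype.ext ?_
  have hy : ((n : G) * y * (n : G)⁻¹) ∈ (P : Subgroup G) :=
    (Subgroup.mem_normalizer_iff.mp n.2 _).mp y.2
  have := SixteenNine.eq_of_hnpc (P := P.subtype hPC) hu
    (fun a ha b hb => Subtype.ext (comm_of_isMulCommutative hab ha hb))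
    (x := ⟨(y : G), hPC y.2⟩) (g := ⟨(n : G), hnC⟩) y.2 hy
  have e : (n : G) * y * (n : G)⁻¹ = (y : G) := congrArg Subtype.val this
  exact e

/-- Fusion in an abelian Sylow subgroup is controlled by the automizer. -/
theorem exists_aut_of_isConj (hab : IsMulCommutative (P : Subgroup G)) {u v : (P : Subgroup G)}
    (h : IsConj (u : G) (v : G)) : ∃ α ∈ autGrp P, α u = v := by
  haveI : Fact (Nat.Prime 2) := ⟨Nat.prime_two⟩
  haveI := hab
  obtain ⟨g, hg⟩ := isConj_iff.mp h
  obtain ⟨n, hn, e⟩ := P.conj_eq_normalizer_conj_of_mem (u : G) g⁻¹ u.2 (by rw [inv_inv, hg]; exact v.2)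
  refine ⟨_, ⟨⟨n⁻¹, inv_mem hn⟩, rfl⟩, Subtype.ext ?_⟩
  show n⁻¹ * u * n⁻¹⁻¹ = v
  rw [inv_inv, ← e, inv_inv, hg]

/-- An element of a group of odd order fixing a non-identity element of a four-group acts trivially. -/
theorem fix_of_four {A : Type*} [Group A] {α : MulAut A} (hα : Odd (orderOf α)) {a w : A} (ha : a * a = 1)
    (hfix : α a = a) (hw : α w = a * w) : α w = w := by
  have h2 : (α ^ 2) w = w := by
    rw [pow_two, MulAut.mul_apply, hw, map_mul, hfix, hw, ← mul_assoc, ha, one_mul]
  obtain ⟨k, hk⟩ := hα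
  have h2k : ∀ j : ℕ, ((α ^ 2) ^ j) w = w := by
    intro j
    induction j with
    | zero => rfl
    | succ j ih => rw [pow_succ, MulAut.mul_apply, h2, ih]
  have h := DFunLike.congr_fun (pow_orderOf_eq_one α) w
  rw [hk, pow_succ', MulAut.mul_apply, pow_mul, h2k, MulAut.one_apply] at h
  exact h

/-- Without a proper normal subgroup of 2-power index the automizer fixes no non-identity element. -/
theorem eq_one_of_fixed (hab : IsMulCommutative (P : Subgroup G)) (htop : pResidual 2 G = ⊤)
    {u : (P : Subgroup G)} (hu : ∀ α ∈ autGrp P, α u = u) : u = 1 := by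
  haveI : Fact (Nat.Prime 2) := ⟨Nat.prime_two⟩
  haveI := hab
  letI : CommGroup (P : Subgroup G) :=
    { (inferInstance : Group (P : Subgroup G)) with mul_comm := fun a b => mul_comm' a b }
  let f : G →* (P : Subgroup G) := MonoidHom.transfer (MonoidHom.id _)
  have hc : ∀ n ∈ Subgroup.normalizer ((P : Subgroup G) : Set G), n * (u : G) = u * n := fun n hn =>
    mul_inv_eq_iff_eq_mul.mp (congrArg Subtype.val (hu _ ⟨⟨n, hn⟩, rfl⟩))
  have hval : f u = ⟨(u : G) ^ (P : Subgroup G).index, (P : Subgroup G).pow_mem u.2 _⟩ := by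
    have key : ∀ (k : ℕ) (g₀ : G), g₀⁻¹ * (u : G) ^ k * g₀ ∈ (P : Subgroup G) →
        g₀⁻¹ * (u : G) ^ k * g₀ = (u : G) ^ k := by
      intro k g₀ h
      obtain ⟨n, hn, h'⟩ :=
        P.conj_eq_normalizer_conj_of_mem ((u : G) ^ k) g₀ ((P : Subgroup G).pow_mem u.2 k) h
      rw [h', mul_assoc, ← ((show Commute n (u : G) from hc n hn).pow_right k).eq, inv_mul_cancel_left]
    exact MonoidHom.transfer_eq_pow _ _ key
  have hle : pResidual 2 G ≤ f.ker := (Subgroup.closure_le _).2 fun g hg => by
    refine MonoidHom.mem_ker.mpr (orderOf_eq_one_iff.mp ?_)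
    obtain ⟨k, hk⟩ := (IsPGroup.iff_orderOf.mp P.isPGroup') (f g)
    rw [hk]
    have hco : Nat.Coprime (orderOf g) (2 ^ k) := Nat.Coprime.pow_right k hg
    exact Nat.eq_one_of_dvd_coprimes hco (hk ▸ orderOf_map_dvd f g) dvd_rfl
  have h1 : f u = 1 := MonoidHom.mem_ker.1 (hle (htop ▸ Subgroup.mem_top (u : G)))
  rw [hval] at h1
  have h2 : u ^ (P : Subgroup G).index = (1 : (P : Subgroup G)) ^ (P : Subgroup G).index := by
    rw [one_pow]; exact Subtype.ext ((SubgroupClass.coe_pow u _).trans (congrArg Subtype.val h1))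
  exact (P.isPGroup'.powEquiv' P.not_dvd_index).injective h2

end Cfsg.Agent.Char.FreeInv
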