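import Cfsg.Agent.Lib.Char.OneClassProducts
import Cfsg.Agent.Lib.Char.KleinFour
import Cfsg.Agent.Lib.Char.FreeInvolution.Basic

/-!
# The column of an element with a 2-nilpotent centralizer in an abelian Sylow 2-subgroup
-/

set_option autoImplicit false
set_option linter.unusedSectionVars false
set_option linter.style.haveILetI false

namespace Cfsg.Agent.Char.FreeInv

open Cfsg Cfsg.Agent.Char
open scoped ComplexConjugate

universe u

variable {G : Type u} [Group G] [Fintype G] {M : Ideal AlgInt} {P : Sylow 2 G}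

/-- The data of a normal 2-complement in the centralizer of `x`. -/
structure Compl (P : Sylow 2 G) (x : G) (K : Subgroup (Subgroup.centralizer ({x} : Set G))) : Prop where
  hx : x ∈ (P : Subgroup G)
  sq : x * x = 1
  comm : IsMulCommutative (P : Subgroup G)
  normal : K.Normal
  odd : ¬ 2 ∣ Nat.card K
  index : K.index = Nat.card (P : Subgroup G)

theorem exists_compl (hab : IsMulCommutative (P : Subgroup G)) {x : G} (hx : x ∈ (P : Subgroup G))
    (hsq : x * x = 1) (h : HasNormalPComplement 2 (Subgroup.centralizer ({x} : Set G))) :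
    ∃ K, Compl P x K := by
  classical
  haveI : Fact (Nat.Prime 2) := ⟨Nat.prime_two⟩
  haveI : Fintype (Subgroup.centralizer ({x} : Set G)) := Fintype.ofFinite _
  obtain ⟨K, hKn, hK, ⟨k, hk⟩, -⟩ := exists_complement_index h
  refine ⟨K, hx, hsq, hab, hKn, hK, ?_⟩
  rw [← card_sylow_eq_index K hK hk (P.subtype (le_centralizer_singleton hab hx)), Sylow.coe_subtype]
  exact Nat.card_congr (Subgroup.subgroupOfEquivOfLe (le_centralizer_singleton hab hx)).toEquiv

section Col

variable {x : G} {K : Subgroup (Subgroup.centralizer ({x} : Set G))} (hc : Compl P x K)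
  (hM : IsPModular 2 M)

include hc

theorem Compl.two_power : ∃ k : ℕ, orderOf x = 2 ^ k := by
  haveI : Fact (Nat.Prime 2) := ⟨Nat.prime_two⟩
  obtain ⟨k, -, hk⟩ := (Nat.dvd_prime_pow Nat.prime_two).1
    (orderOf_dvd_of_pow_eq_one (x := x) (n := 2 ^ 1) (by rw [pow_one, pow_two, hc.sq]))
  exact ⟨k, hk⟩

theorem Compl.index_pow : ∃ k : ℕ, K.index = 2 ^ k := by
  haveI : Fact (Nat.Prime 2) := ⟨Nat.prime_two⟩
  rw [hc.index]
  exact IsPGroup.iff_card.mp P.isPGroup'

include hM

open scoped Classical in
/-- The squares of the column add up to the order of the Sylow subgroup. -/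
theorem Compl.sum_sq (d : IrrCharacter G → ℤ) (hd : ∀ χ : IrrCharacter G, (χ : G → ℂ) x = (d χ : ℂ)) :
    ∑ χ : IrrCharacter G with χ ∈ principalBlock M G, d χ ^ 2 = Nat.card (P : Subgroup G) := by
  haveI : Fact (Nat.Prime 2) := ⟨Nat.prime_two⟩
  haveI : Fintype (Subgroup.centralizer ({x} : Set G)) := Fintype.ofFinite _
  haveI := hc.normal
  obtain ⟨k, hk⟩ := hc.index_pow
  have h := sum_principal_sq_section hM hc.two_power K hc.odd hk
  simp only [hd, map_intCast, hc.index] at h
  have h2 : ((∑ χ : IrrCharacter G with χ ∈ principalBlock M G, d χ ^ 2 : ℤ) : ℂ) =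
      ((Nat.card (P : Subgroup G) : ℤ) : ℂ) := by
    push_cast
    rw [← h]
    exact Finset.sum_congr rfl fun χ _ => by ring
  exact_mod_cast h2

/-- The column of `x` has no zero. -/
theorem Compl.value_ne_zero {χ : IrrCharacter G} (hχ : χ ∈ principalBlock M G) : (χ : G → ℂ) x ≠ 0 := by
  intro e
  have h1 := ((mem_block_iff (pmod_prime hM) (isPBlock_principalBlock M) (one_mem_principal hM) χ).mp hχ) x
  simp only [centralChar, e, mul_zero, zero_div, sub_zero, mul_one, div_one] at h1
  have h2 := (memLI_natCast_iff hM _).mp h1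
  haveI : Fact (Nat.Prime 2) := ⟨Nat.prime_two⟩
  exact P.not_dvd_index (h2.trans (Subgroup.index_dvd_of_le (le_centralizer_singleton hc.comm hc.hx)))

open scoped Classical in
/-- A character equal to one on the section of `x` lies in the principal block. -/
theorem Compl.mem_of_const {χ : IrrCharacter G}
    (h : ∀ v ∈ K, (χ : G → ℂ) (x * (v : G)) = 1) : χ ∈ principalBlock M G := by
  haveI : Fact (Nat.Prime 2) := ⟨Nat.prime_two⟩
  haveI : Fintype (Subgroup.centralizer ({x} : Set G)) := Fintype.ofFinite _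
  haveI := hc.normal
  obtain ⟨k, hk⟩ := hc.index_pow
  have hs := OneClass.section_sum_values K hM hc.two_power hc.odd hk χ
  by_contra hn
  rw [if_neg hn, Finset.sum_congr rfl fun v hv => h v (Finset.mem_filter.mp hv).2, Finset.sum_const,
    nsmul_one] at hs
  exact (Finset.card_ne_zero.mpr ⟨1, by simp⟩ : (Finset.univ.filter fun v => v ∈ K).card ≠ 0)
    (Nat.cast_eq_zero.mp hs)

open scoped Classical in
/-- The indicators weighted by the column, when `x` is not a square in the local quotient. -/
theorem Compl.sum_indicator (hel : ∀ u ∈ (P : Subgroup G), u * u = 1) (hx1 : x ≠ 1) :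
    ∑ χ : IrrCharacter G with χ ∈ principalBlock M G,
      indicator2 (χ : G → ℂ) * (χ : G → ℂ) x = 0 := by
  haveI : Fact (Nat.Prime 2) := ⟨Nat.prime_two⟩
  haveI : Fintype (Subgroup.centralizer ({x} : Set G)) := Fintype.ofFinite _
  haveI := hc.normal
  obtain ⟨k, hk⟩ := hc.index_pow
  have hxC : x ∈ Subgroup.centralizer ({x} : Set G) := Subgroup.mem_centralizer_singleton_iff.mpr rfl
  set xC : Subgroup.centralizer ({x} : Set G) := ⟨x, hxC⟩ with hxCdef
  have hKreg : ∀ c : Subgroup.centralizer ({x} : Set G), ¬ 2 ∣ orderOf c ↔ c ∈ K := regular_iff_mem_of_index Nat.prime_two K hc.odd hk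
  have hxK : xC ∉ K := by
    intro h
    refine (hKreg xC).mpr h ?_
    rw [Subgroup.orderOf_mk, orderOf_eq_prime (by rw [pow_two, hc.sq]) hx1]
  -- squares lie in the complement
  have hsqK : ∀ v : Subgroup.centralizer ({x} : Set G), v * v ∈ K := by
    intro v
    obtain ⟨a, b, hab, hcm, ⟨i, hi⟩, hb⟩ := exists_isPPart Nat.prime_two v
    have hbK : b ∈ K := (hKreg b).mp hb
    obtain ⟨S, hS⟩ := (IsPGroup.of_card (p := 2) (n := i) (G := Subgroup.zpowers a)
      (by rw [Nat.card_zpowers, hi])).exists_le_sylow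
    obtain ⟨g, hg⟩ := MulAction.exists_smul_eq (Subgroup.centralizer ({x} : Set G)) S (P.subtype (le_centralizer_singleton hc.comm hc.hx))
    have ha : g * a * g⁻¹ ∈ (P.subtype (le_centralizer_singleton hc.comm hc.hx) : Subgroup (Subgroup.centralizer ({x} : Set G))) := by
      rw [← hg]
      exact ⟨a, hS (Subgroup.mem_zpowers a), rfl⟩
    have haa : a * a = 1 := by
      have h : (g * a * g⁻¹) * (g * a * g⁻¹) = 1 :=
        Subtype.ext (hel ((g * a * g⁻¹ : (Subgroup.centralizer ({x} : Set G))) : G) ha)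
      rwa [conj_mul, conj_eq_one_iff] at h
    rw [← hab, hcm.symm.mul_mul_mul_comm, haa, one_mul]
    exact mul_mem hbK hbK
  set θ : G → ℂ := fun a => ((Finset.univ.filter fun u : G => u * u = a).card : ℂ) with hθ
  have hreg : ¬ 2 ∣ orderOf (1 : (Subgroup.centralizer ({x} : Set G))) := by simp
  have h := blockPart_section_eq hM hc.two_power (isPBlock_principalBlock M) isClassFunction_sqrtCount
    (ϑ := θ) (1 : (Subgroup.centralizer ({x} : Set G))) hreg
  rw [OneMemClass.coe_one, mul_one, principal_section_filter hM hc.two_power, Finset.sum_singleton] at h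
  have h' := blockPart_sqrtCount (principalBlock M G) x
  rw [hθ] at h
  rw [h', blockPart_principal_one hM K hc.odd hk, ← hθ] at h
  rw [h]
  refine mul_eq_zero_of_right _ (Finset.sum_eq_zero fun c _ => ?_)
  unfold subInd
  split_ifs with hcK
  · rw [one_mul]
    show θ (x * (c : G)) = 0
    simp only [hθ, Nat.cast_eq_zero, Finset.card_eq_zero, Finset.filter_eq_empty_iff]
    intro u _ hu
    -- a square root centralizes `x`
    have h1 : IsPPart 2 (u * u) x := hu ▸ isPPart_mul hc.two_power c ((hKreg c).mpr hcK)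
    obtain ⟨w, hw, hcm, ⟨i, hi⟩, hwr⟩ := h1
    have h2 : IsPPart 2 (u * u) (u * x * u⁻¹) := by
      refine ⟨u * w * u⁻¹, ?_, ?_, ⟨i, ?_⟩, ?_⟩
      · rw [conj_mul, hw]; group
      · simpa [MulAut.conj_apply] using hcm.map (MulAut.conj u)
      · rw [← hi, ← MulAut.conj_apply, MulEquiv.orderOf_eq]
      · rwa [← MulAut.conj_apply, MulEquiv.orderOf_eq]
    have h3 := isPPart_unique Nat.prime_two h2 ⟨w, hw, hcm, ⟨i, hi⟩, hwr⟩
    have huC : u ∈ Subgroup.centralizer ({x} : Set G) := Subgroup.mem_centralizer_singleton_iff.mpr (by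
      calc u * x = u * x * u⁻¹ * u := by group
        _ = x * u := by rw [h3])
    have h4 : xC * c ∈ K := by
      have e : (⟨u, huC⟩ : (Subgroup.centralizer ({x} : Set G))) * ⟨u, huC⟩ = xC * c := Subtype.ext hu
      exact e ▸ hsqK _
    exact hxK ((K.mul_mem_cancel_right hcK).mp h4)
  · rw [zero_mul]

open scoped Classical in
/-- Small Sylow subgroups. -/
theorem Compl.card_small (hle : Nat.card (P : Subgroup G) ≤ 4) :
    Nat.card (principalBlock M G) = Nat.card (P : Subgroup G) := by
  choose d hd using fun χ : IrrCharacter G =>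
    char_involution_int (irr_isCharacter χ.2) (t := x) (by rw [pow_two]; exact hc.sq)
  have hsum := hc.sum_sq hM d hd
  set S := Finset.univ.filter fun χ : IrrCharacter G => χ ∈ principalBlock M G with hS
  set one : IrrCharacter G := ⟨fun _ => 1, isIrrCharacter_one⟩
  have h1 : d one = 1 := by
    have h := hd one
    have h' : (1 : ℂ) = (d one : ℂ) := h
    exact_mod_cast h'.symm
  have hpos : ∀ χ ∈ S, 1 ≤ d χ ^ 2 := by
    intro χ hχ
    have hne : d χ ≠ 0 := fun e => hc.value_ne_zero hM (Finset.mem_filter.mp hχ).2 (by rw [hd, e, Int.cast_zero])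
    have := sq_pos_of_ne_zero hne
    omega
  have hall : ∀ χ ∈ S, d χ ^ 2 = 1 := by
    intro χ hχ
    by_contra hne
    have h1S : one ∈ S := Finset.mem_filter.mpr ⟨Finset.mem_univ _, one_mem_principal hM⟩
    have hχ1 : χ ≠ one := by
      rintro rfl
      exact hne (by rw [h1]; norm_num)
    have h2 : 4 ≤ d χ ^ 2 := by
      have hne0 : d χ ≠ 0 := fun e => hc.value_ne_zero hM (Finset.mem_filter.mp hχ).2 (by rw [hd, e, Int.cast_zero])
      have h3 : 2 ≤ |d χ| := by
        rcases abs_choice (d χ) with e | e <;>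
        · by_contra hlt
          have h4 : d χ = 1 ∨ d χ = -1 := by
            have := abs_pos.mpr hne0
            omega
          rcases h4 with e' | e' <;> exact hne (by rw [e']; norm_num)
      rw [← sq_abs]
      nlinarith
    have h5 : d χ ^ 2 + d one ^ 2 ≤ ∑ ψ ∈ S, d ψ ^ 2 := by
      rw [← Finset.sum_pair hχ1 (f := fun ψ => d ψ ^ 2)]
      refine Finset.sum_le_sum_of_subset_of_nonneg ?_ fun ψ _ _ => sq_nonneg _
      intro ψ hψ
      rcases Finset.mem_insert.mp hψ with rfl | hψ
      · exact hχ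
      · rwa [Finset.mem_singleton.mp hψ]
    rw [hsum, h1] at h5
    omega
  rw [Finset.sum_congr rfl hall, Finset.sum_const, nsmul_one] at hsum
  rw [Nat.card_eq_fintype_card, Fintype.card_subtype]
  exact_mod_cast hsum

end Col

end Cfsg.Agent.Char.FreeInv
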