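import Cfsg.Agent.Lib.Char.FreeInvolution.Basic
import Cfsg.Agent.Lib.Char.PrincipalInflate
import Cfsg.Agent.Lib.Char.OneBlock
import Mathlib

/-!
# The principal block when a free Sylow 2-subgroup is normal modulo the odd core
-/

set_option autoImplicit false
set_option linter.unusedSectionVars false
set_option linter.style.haveILetI false

namespace Cfsg.Agent.Char.FreeInv

open Cfsg Cfsg.Agent.Char

universe u

/-- The class number of a group with a normal subgroup `Q` self-centralizing at each non-identity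
element and with abelian quotient. -/
theorem card_classes_frobenius {H : Type u} [Group H] [Finite H] (Q : Subgroup H) [hQn : Q.Normal]
    (hC : ∀ u ∈ Q, u ≠ 1 → Subgroup.centralizer ({u} : Set H) = Q)
    (hab : ∀ a b : H ⧸ Q, a * b = b * a) :
    Nat.card (ConjClasses H) * Q.index + 1 = Nat.card Q + Q.index ^ 2 := by
  classical
  haveI := Fintype.ofFinite H
  have hQ1 : Q.index ≠ 0 := Subgroup.index_ne_zero_of_finite
  have hone : Subgroup.centralizer ({(1 : H)} : Set H) = ⊤ :=
    eq_top_iff.mpr fun g _ => Subgroup.mem_centralizer_singleton_iff.mpr (by simp)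
  have hout : ∀ g : H, g ∉ Q → Nat.card (Subgroup.centralizer ({g} : Set H)) = Q.index := by
    intro g hg
    apply le_antisymm
    · rw [Subgroup.index_eq_card]
      refine Nat.card_le_card_of_injective
        (fun c : Subgroup.centralizer ({g} : Set H) => QuotientGroup.mk' Q (c : H)) fun c c' e => ?_
      have h : (c : H)⁻¹ * c' ∈ Q := QuotientGroup.eq.mp e
      by_contra hne
      have h1 : (c : H)⁻¹ * c' ≠ 1 := fun e1 => hne (Subtype.ext (inv_mul_eq_one.mp e1))
      refine hg (hC _ h h1 ▸ Subgroup.mem_centralizer_singleton_iff.mpr ?_)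
      have hm := mul_mem (inv_mem c.2) c'.2
      exact (Subgroup.mem_centralizer_singleton_iff.mp hm).symm
    · have h := card_conjClass_mul_centralizer g
      have hle : Nat.card {x : H // IsConj g x} ≤ Nat.card Q := by
        refine Nat.card_le_card_of_injective (fun x : {x : H // IsConj g x} => (⟨g⁻¹ * x.1, ?_⟩ : Q)) fun x y e =>
          Subtype.ext (mul_left_cancel (congrArg Subtype.val e))
        obtain ⟨c, hc⟩ := isConj_iff.mp x.2
        rw [← QuotientGroup.eq, ← hc, QuotientGroup.mk_mul, QuotientGroup.mk_mul, hab (c : H ⧸ Q) g,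
          QuotientGroup.mk_inv, mul_inv_cancel_right]
      refine Nat.le_of_mul_le_mul_left ?_ (Nat.card_pos (α := Q))
      calc Nat.card Q * Q.index = Nat.card H := Q.card_mul_index
        _ = Nat.card {x : H // IsConj g x} * Nat.card (Subgroup.centralizer ({g} : Set H)) := h.symm
        _ ≤ Nat.card Q * Nat.card (Subgroup.centralizer ({g} : Set H)) := Nat.mul_le_mul_right _ hle
  have hsum : Nat.card (ConjClasses H) * Nat.card H =
      ∑ g : H, Nat.card (Subgroup.centralizer ({g} : Set H)) := by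
    rw [← card_comm_eq_card_conjClasses_mul_card, Nat.card_congr (Equiv.subtypeProdEquivSigmaSubtype _),
      Nat.card_sigma]
    refine Finset.sum_congr rfl fun g _ => Nat.card_congr (Equiv.subtypeEquivRight fun b => ?_)
    rw [Subgroup.mem_centralizer_singleton_iff]
    exact ⟨fun h => h.eq.symm, fun h => (show Commute g b from h.symm)⟩
  have h1 : (1 : H) ∈ (Finset.univ.filter fun g => g ∈ Q) := by simp
  have hcard : (Finset.univ.filter fun g : H => g ∈ Q).card = Nat.card Q := by
    rw [Nat.card_eq_fintype_card, Fintype.card_subtype]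
  have hcard' : (Finset.univ.filter fun g : H => g ∉ Q).card + Nat.card Q = Nat.card H := by
    rw [← hcard, add_comm, Finset.card_filter_add_card_filter_not, Finset.card_univ,
      Nat.card_eq_fintype_card]
  rw [← Finset.sum_filter_add_sum_filter_not Finset.univ (fun g => g ∈ Q),
    Finset.sum_congr rfl (s₁ := Finset.univ.filter fun g : H => g ∉ Q)
      (fun g hg => hout g (Finset.mem_filter.mp hg).2),
    Finset.sum_const, smul_eq_mul, ← Finset.add_sum_erase _ _ h1, hone, Subgroup.card_top,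
    Finset.sum_congr rfl (fun g hg => by
      obtain ⟨hne, hgQ⟩ := Finset.mem_erase.mp hg
      rw [hC g (Finset.mem_filter.mp hgQ).2 hne]),
    Finset.sum_const, smul_eq_mul, Finset.card_erase_of_mem h1, hcard] at hsum
  obtain ⟨m, hm⟩ : ∃ m, Nat.card Q = m + 1 := Nat.exists_eq_add_one.mpr Nat.card_pos
  rw [← Q.card_mul_index] at hsum hcard'
  rw [hm, Nat.add_sub_cancel] at hsum
  rw [hm] at hcard' ⊢
  refine Nat.eq_of_mul_eq_mul_left (Nat.succ_pos m) ?_
  zify at hsum hcard' ⊢
  linear_combination hsum + (Q.index : ℤ) * hcard'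

variable {G : Type u} [Group G] [Fintype G] {M : Ideal AlgInt} {P : Sylow 2 G}

/-- The number of principal characters when the Sylow subgroup is normal modulo a normal subgroup of odd
order. -/
theorem card_of_normal (hM : IsPModular 2 M) (hab : IsMulCommutative (P : Subgroup G))
    (hcomm : ∀ α ∈ autGrp P, ∀ β ∈ autGrp P, α * β = β * α)
    (hfree : ∀ u : (P : Subgroup G), u ≠ 1 → IsFree P u)
    (hne : ∃ α ∈ autGrp P, α ≠ 1)
    {W : Subgroup G} [hW : W.Normal] (hWodd : ¬ 2 ∣ Nat.card W)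
    (htop : ∀ g : G, ∃ w ∈ W, ∃ n ∈ Subgroup.normalizer ((P : Subgroup G) : Set G), g = w * n) :
    ∃ e : ℕ, e ∣ Nat.card (autGrp P) ∧ e ≠ 1 ∧ Odd e ∧
      Nat.card (principalBlock M G) * e + 1 = Nat.card (P : Subgroup G) + e ^ 2 := by
  classical
  haveI : Fact (Nat.Prime 2) := ⟨Nat.prime_two⟩
  set O := pPrimeCore 2 G with hO
  have hOodd : ¬ 2 ∣ Nat.card O :=
    Nat.prime_two.coprime_iff_not_dvd.mp (Fusion.card_pPrimeCore_coprime 2 G).symm
  have hWO : W ≤ O := Fusion.le_pPrimeCore (Nat.prime_two.coprime_iff_not_dvd.mpr hWodd).symm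
  have hPO : ∀ u ∈ (P : Subgroup G), u ∈ O → u = 1 := by
    intro u hu hu'
    obtain ⟨i, hi⟩ := IsPGroup.iff_orderOf.mp P.isPGroup' ⟨u, hu⟩
    rw [Subgroup.orderOf_mk] at hi
    have h := Fusion.mem_pPrimeCore_orderOf hu'
    rw [hi] at h
    rw [← orderOf_eq_one_iff, hi]
    rcases i with _ | i
    · rfl
    · rw [Nat.coprime_pow_left_iff (Nat.succ_pos _)] at h
      norm_num at h
  set π := QuotientGroup.mk' O
  set Q := (P : Subgroup G).map π with hQdef
  have hnorm : ∀ n ∈ Subgroup.normalizer ((P : Subgroup G) : Set G), ∀ u ∈ (P : Subgroup G),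
      n * u * n⁻¹ ∈ (P : Subgroup G) := fun n hn u hu => (Subgroup.mem_normalizer_iff.mp hn u).mp hu
  have hmk : ∀ g : G, ∃ n ∈ Subgroup.normalizer ((P : Subgroup G) : Set G), π g = π n := by
    intro g
    obtain ⟨w, hw, n, hn, rfl⟩ := htop g
    refine ⟨n, hn, ?_⟩
    rw [map_mul, show π w = 1 from (QuotientGroup.eq_one_iff w).mpr (hWO hw), one_mul]
  haveI hQn : Q.Normal := ⟨fun q hq g => by
    obtain ⟨u, hu, rfl⟩ := hq
    obtain ⟨a, rfl⟩ := QuotientGroup.mk'_surjective O g
    obtain ⟨n, hn, e⟩ := hmk a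
    exact ⟨_, hnorm n hn u hu, by rw [e, map_mul, map_mul, map_inv]⟩⟩
  have hinj : ∀ u ∈ (P : Subgroup G), ∀ v ∈ (P : Subgroup G), π u = π v → u = v := fun u hu v hv e =>
    inv_mul_eq_one.mp (hPO _ (mul_mem (inv_mem hu) hv) (QuotientGroup.eq.mp e))
  have hfix : ∀ (u : (P : Subgroup G)) (n : G), n ∈ Subgroup.normalizer ((P : Subgroup G) : Set G) →
      u ≠ 1 → π n * π u = π u * π n → π n ∈ Q := by
    intro u n hn hu e
    have h1 : n * u * n⁻¹ = u := hinj _ (hnorm n hn u u.2) _ u.2 (by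
      rw [map_mul, map_mul, map_inv, e, mul_inv_cancel_right])
    have hα := hfree u hu _ ⟨⟨n, hn⟩, rfl⟩ (Subtype.ext h1)
    have hnC : n ∈ Subgroup.centralizer ((P : Subgroup G) : Set G) := Subgroup.mem_centralizer_iff.mpr
      fun y hy => (mul_inv_eq_iff_eq_mul.mp (show n * y * n⁻¹ = y from
        congrArg Subtype.val (DFunLike.congr_fun hα (⟨y, hy⟩ : (P : Subgroup G))))).symm
    -- the centralizer of the Sylow subgroup is the Sylow subgroup times a subgroup of the odd core
    set C := Subgroup.centralizer ((P : Subgroup G) : Set G)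
    have hPC : (P : Subgroup G) ≤ C := fun y hy => Subgroup.mem_centralizer_iff.mpr fun z hz =>
      comm_of_isMulCommutative hab hz hy
    haveI : Fintype C := Fintype.ofFinite _
    have hnpc : HasNormalPComplement 2 C := by
      refine Fusion.hnpc_of_normalizer_le_centralizer (P.subtype hPC) fun c _ =>
        Subgroup.mem_centralizer_iff.mpr fun y hy => Subtype.ext ?_
      exact (Subgroup.mem_centralizer_iff.mp c.2 y hy)
    have hres : (pResidual 2 C).map (C.subtype) ≤ O := by
      have hK := Fusion.hnpc_pResidual_le_pPrimeCore hnpc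
      intro y hy
      obtain ⟨c, hc, rfl⟩ := hy
      -- the image of the centralizer in the quotient is normal
      set L := ((pPrimeCore 2 C).map C.subtype).map π with hL
      have hLc : (Nat.card ((pPrimeCore 2 C).map C.subtype)).Coprime 2 := by
        rw [Subgroup.card_map_of_injective C.subtype_injective]
        exact Fusion.card_pPrimeCore_coprime 2 C
      have hLn : L.Normal := ⟨fun l hl g => by
        obtain ⟨_, ⟨d, hd, rfl⟩, rfl⟩ := hl
        obtain ⟨a, rfl⟩ := QuotientGroup.mk'_surjective O g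
        obtain ⟨m, hm, e⟩ := hmk a
        have hmC : m * (d : G) * m⁻¹ ∈ C := Subgroup.mem_centralizer_iff.mpr fun z hz => by
          have hz' := (Subgroup.mem_normalizer_iff.mp (inv_mem hm) z).mp hz
          rw [inv_inv] at hz'
          have h := Subgroup.mem_centralizer_iff.mp d.2 _ hz'
          calc z * (m * d * m⁻¹) = m * (m⁻¹ * z * m * d) * m⁻¹ := by group
            _ = m * (d * (m⁻¹ * z * m)) * m⁻¹ := by rw [h]
            _ = m * d * m⁻¹ * z := by group
        have hdo : ¬ 2 ∣ orderOf (⟨_, hmC⟩ : C) := by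
          rw [Subgroup.orderOf_mk, ← MulAut.conj_apply, MulEquiv.orderOf_eq, Subgroup.orderOf_coe]
          exact Nat.prime_two.coprime_iff_not_dvd.mp (Fusion.mem_pPrimeCore_orderOf hd).symm
        refine ⟨m * d * m⁻¹, ⟨⟨_, hmC⟩, hK (Subgroup.subset_closure
          (Nat.prime_two.coprime_iff_not_dvd.mpr hdo).symm), rfl⟩, ?_⟩
        rw [e, map_mul, map_mul, map_inv]
        rfl⟩
      have hLbot : L ≤ ⊥ := by
        rw [← Fusion.pPrimeCore_quotient_eq_bot (p := 2) (G := G)]
        exact Fusion.le_pPrimeCore (hLc.coprime_dvd_left (Subgroup.card_map_dvd _ π))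
      exact (QuotientGroup.eq_one_iff _).mp (Subgroup.mem_bot.mp
        (hLbot ⟨_, ⟨c, hK hc, rfl⟩, rfl⟩))
    obtain ⟨a, b, hab', -, ⟨i, hi⟩, hb⟩ := exists_isPPart Nat.prime_two (⟨n, hnC⟩ : C)
    have hbO : (b : G) ∈ O := hres ⟨b, Subgroup.subset_closure
      (Nat.prime_two.coprime_iff_not_dvd.mpr hb).symm, rfl⟩
    have haP : (a : G) ∈ (P : Subgroup G) := by
      have ha := a.2
      have hzp : IsPGroup 2 (Subgroup.zpowers (a : G)) :=
        IsPGroup.of_card (n := i) (by rw [Nat.card_zpowers, Subgroup.orderOf_coe, hi])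
      have hnn : Subgroup.zpowers (a : G) ≤ Subgroup.normalizer ((P : Subgroup G) : Set G) := by
        rw [Subgroup.zpowers_le]
        exact Subgroup.centralizer_le_normalizer _ ha
      have h := P.is_maximal' (hzp.to_sup_of_normal_right' P.isPGroup' hnn) le_sup_right
      rw [← h]
      exact Subgroup.mem_sup_left (Subgroup.mem_zpowers _)
    refine ⟨a, haP, ?_⟩
    have e1 : (a : G) * b = n := congrArg Subtype.val hab'
    rw [← e1, map_mul, show π (b : G) = 1 from (QuotientGroup.eq_one_iff _).mpr hbO, mul_one]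
  have hC : ∀ q ∈ Q, q ≠ 1 → Subgroup.centralizer ({q} : Set (G ⧸ O)) = Q := by
    rintro _ ⟨u, hu, rfl⟩ hq1
    apply le_antisymm
    · intro g hg
      obtain ⟨a, rfl⟩ := QuotientGroup.mk'_surjective O g
      obtain ⟨n, hn, e⟩ := hmk a
      rw [e] at hg ⊢
      exact hfix ⟨u, hu⟩ n hn (fun h => hq1 (by
        rw [show u = 1 from congrArg Subtype.val h, map_one]))
        (Subgroup.mem_centralizer_singleton_iff.mp hg)
    · rintro _ ⟨v, hv, rfl⟩
      refine Subgroup.mem_centralizer_singleton_iff.mpr ?_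
      rw [← map_mul, ← map_mul, comm_of_isMulCommutative hab hv hu]
  have hcardQ : Nat.card Q = Nat.card (P : Subgroup G) := by
    refine (Nat.card_congr (Equiv.ofBijective (fun u : (P : Subgroup G) => (⟨π u, u, u.2, rfl⟩ : Q))
      ⟨fun u v e => Subtype.ext (hinj _ u.2 _ v.2 (congrArg Subtype.val e)), fun q => ?_⟩)).symm
    obtain ⟨u, hu, e⟩ := q.2
    exact ⟨⟨u, hu⟩, Subtype.ext e⟩
  obtain ⟨α, hα, hα1⟩ := hne
  obtain ⟨⟨n₀, hn₀⟩, rfl⟩ := hα
  have hu₀ : ∃ u : (P : Subgroup G), n₀ * u * n₀⁻¹ ≠ u := by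
    by_contra h
    push Not at h
    exact hα1 (MulEquiv.ext fun u => Subtype.ext (h u))
  obtain ⟨u₀, hu₀⟩ := hu₀
  have hu₀1 : u₀ ≠ 1 := by rintro rfl; exact hu₀ (by simp)
  have hQab : ∀ a b : (G ⧸ O) ⧸ Q, a * b = b * a := by
    intro a b
    induction a using QuotientGroup.induction_on with | _ a
    induction b using QuotientGroup.induction_on with | _ b
    obtain ⟨a, rfl⟩ := QuotientGroup.mk'_surjective O a
    obtain ⟨b, rfl⟩ := QuotientGroup.mk'_surjective O b
    obtain ⟨n, hn, e⟩ := hmk a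
    obtain ⟨m, hm, e'⟩ := hmk b
    rw [e, e', ← QuotientGroup.mk_mul, ← QuotientGroup.mk_mul, QuotientGroup.eq]
    have hN : (n * m)⁻¹ * (m * n) ∈ Subgroup.normalizer ((P : Subgroup G) : Set G) :=
      mul_mem (inv_mem (mul_mem hn hm)) (mul_mem hm hn)
    have hc := hcomm _ (⟨⟨n, hn⟩, rfl⟩) _ (⟨⟨m, hm⟩, rfl⟩)
    have h0 : (n * m)⁻¹ * (m * n) * u₀ * ((n * m)⁻¹ * (m * n))⁻¹ = u₀ := by
      have h := congrArg Subtype.val (DFunLike.congr_fun hc u₀)
      change n * (m * u₀ * m⁻¹) * n⁻¹ = m * (n * u₀ * n⁻¹) * m⁻¹ at h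
      calc (n * m)⁻¹ * (m * n) * u₀ * ((n * m)⁻¹ * (m * n))⁻¹ =
            (n * m)⁻¹ * (m * (n * u₀ * n⁻¹) * m⁻¹) * (n * m) := by group
        _ = (n * m)⁻¹ * (n * (m * u₀ * m⁻¹) * n⁻¹) * (n * m) := by rw [h]
        _ = u₀ := by group
    rw [← map_mul, ← map_mul, ← map_inv, ← map_mul]
    refine hfix u₀ _ hN hu₀1 ?_
    rw [← map_mul, ← map_mul, mul_inv_eq_iff_eq_mul.mp h0]
  have hidx1 : Q.index ≠ 1 := by
    intro h
    rw [Subgroup.index_eq_one] at h
    obtain ⟨v, hv, hve⟩ : π n₀ ∈ Q := h ▸ Subgroup.mem_top _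
    refine hu₀ (hinj _ (hnorm n₀ hn₀ u₀ u₀.2) _ u₀.2 ?_)
    rw [map_mul, map_mul, map_inv, ← hve, ← map_mul, comm_of_isMulCommutative hab hv u₀.2, map_mul,
      mul_inv_cancel_right]
  have hnat : (P : Subgroup G) ≠ ⊥ := fun h => hu₀1 (Subtype.ext (Subgroup.mem_bot.mp (h ▸ u₀.2)))
  -- one block
  haveI : Fintype (G ⧸ O) := Fintype.ofFinite _
  have hQp : IsPGroup 2 Q := P.isPGroup'.map π
  have hcore : Subgroup.centralizer (pCore 2 (G ⧸ O) : Set (G ⧸ O)) ≤ pCore 2 (G ⧸ O) := by
    refine le_trans ?_ (Fusion.le_pCore hQp)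
    intro g hg
    have h1 : π u₀ ∈ Q := ⟨u₀, u₀.2, rfl⟩
    rw [← hC _ h1 fun e => hu₀1 (Subtype.ext (hPO _ u₀.2 ((QuotientGroup.eq_one_iff _).mp e)))]
    exact Subgroup.mem_centralizer_singleton_iff.mpr
      (Subgroup.mem_centralizer_iff.mp hg _ (Fusion.le_pCore hQp h1)).symm
  have hk : Nat.card (principalBlock M G) = Nat.card (ConjClasses (G ⧸ O)) := by
    have hall : ∀ ψ : IrrCharacter (G ⧸ O), ψ ∈ principalBlock M (G ⧸ O) := fun ψ =>
      sameBlock_of_constrained hM hcore ⟨fun _ => 1, isIrrCharacter_one⟩ ψ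
    have h := sum_principal_inflate hM O hOodd (fun _ => (1 : ℕ))
    simp only [Finset.sum_const, smul_eq_mul, mul_one, hall, Finset.filter_true] at h
    rw [Nat.card_eq_fintype_card, Fintype.card_subtype, h, ← card_irr, Finset.card_univ,
      Nat.card_eq_fintype_card]
  have hcl := card_classes_frobenius Q hC hQab
  rw [← hk, hcardQ] at hcl
  have hodd : Odd Q.index := by
    rw [← Nat.not_even_iff_odd, even_iff_two_dvd]
    intro h2
    refine P.not_dvd_index (h2.trans ?_)
    rw [← Subgroup.index_comap_of_surjective Q (QuotientGroup.mk'_surjective O)]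
    exact Subgroup.index_dvd_of_le fun u hu => ⟨u, hu, rfl⟩
  refine ⟨Q.index, ?_, hidx1, hodd, hcl⟩
  set N := Subgroup.normalizer ((P : Subgroup G) : Set G)
  let g : N →* (G ⧸ O) ⧸ Q := (QuotientGroup.mk' Q).comp (π.comp N.subtype)
  have hg : g.range = ⊤ := MonoidHom.range_eq_top.mpr fun z => by
    induction z using QuotientGroup.induction_on with | _ z
    obtain ⟨a, rfl⟩ := QuotientGroup.mk'_surjective O z
    obtain ⟨n, hn, e⟩ := hmk a
    exact ⟨⟨n, hn⟩, (congrArg (QuotientGroup.mk (s := Q)) e).symm⟩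
  rw [autGrp, ← Subgroup.index_ker, Subgroup.normalizerMonoidHom_ker, Subgroup.index_eq_card Q,
    ← Subgroup.card_top (G := (G ⧸ O) ⧸ Q), ← hg, ← Subgroup.index_ker]
  refine Subgroup.index_dvd_of_le fun n hn => ?_
  refine MonoidHom.mem_ker.mpr ((QuotientGroup.eq_one_iff _).mpr (hfix u₀ n n.2 hu₀1 ?_))
  rw [← map_mul, ← map_mul]
  exact congrArg π (Subgroup.mem_centralizer_iff.mp (Subgroup.mem_subgroupOf.mp hn) _ u₀.2).symm

/-- The principal block when the Sylow subgroup is normal modulo a normal subgroup of odd order. -/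
theorem count_of_normal (hM : IsPModular 2 M) (hab : IsMulCommutative (P : Subgroup G))
    (hcomm : ∀ α ∈ autGrp P, ∀ β ∈ autGrp P, α * β = β * α)
    (hfree : ∀ u : (P : Subgroup G), u ≠ 1 → IsFree P u)
    (hne : ∃ α ∈ autGrp P, α ≠ 1)
    {W : Subgroup G} [hW : W.Normal] (hWodd : ¬ 2 ∣ Nat.card W)
    (htop : ∀ g : G, ∃ w ∈ W, ∃ n ∈ Subgroup.normalizer ((P : Subgroup G) : Set G), g = w * n) :
    (Nat.card (P : Subgroup G) = 8 → Nat.card (principalBlock M G) = 8) ∧
      (Nat.card (P : Subgroup G) = 16 →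
        Nat.card (principalBlock M G) = 8 ∨ Nat.card (principalBlock M G) = 16) := by
  have key : ∀ k e n : ℕ, k * e + 1 = n + e ^ 2 → e ≠ 1 → Odd e →
      (n = 8 → k = 8) ∧ (n = 16 → k = 8 ∨ k = 16) := by
    intro k e n h he ho
    have hd : (e : ℤ) ∣ (n : ℤ) - 1 := ⟨(k : ℤ) - e, by zify at h; linear_combination -h⟩
    refine ⟨fun hn => ?_, fun hn => ?_⟩ <;> subst hn
    · have : e ∣ 7 := Int.natCast_dvd_natCast.mp (by norm_num at hd; exact hd)
      rcases (Nat.dvd_prime (by norm_num : Nat.Prime 7)).mp this with rfl | rfl <;> omega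
    · have h15 : e ∣ 15 := Int.natCast_dvd_natCast.mp (by norm_num at hd; exact hd)
      have := Nat.le_of_dvd (by norm_num) h15
      interval_cases e <;> omega
  obtain ⟨e, -, he1, hodd, hcl⟩ := card_of_normal hM hab hcomm hfree hne hWodd htop
  exact key _ _ _ hcl he1 hodd

end Cfsg.Agent.Char.FreeInv
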