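import Cfsg.Agent.Lib.Char.FreeInvolution.Column
import Cfsg.Agent.Lib.Char.Indicator
import Cfsg.Agent.Lib.Char.Linear
import Cfsg.Agent.Lib.Fusion.StronglyEmbeddedPairs
import Mathlib

/-!
# The principal block of a group with a strongly embedded subgroup and free elementary Sylow 2-subgroup

The non-trivial linear characters of the automizer induce to irreducible characters equal to one on the singular
section, and the indicators weighted by the column force all remaining values to be signs.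
-/

set_option autoImplicit false
set_option linter.unusedSectionVars false
set_option linter.style.haveILetI false

namespace Cfsg.Agent.Char.FreeInv

open Cfsg Cfsg.Agent.Char
open scoped ComplexConjugate

universe u

variable {G : Type u} [Group G] [Fintype G] {P : Sylow 2 G}

/-- The embedded subgroup with its map onto the automizer. -/
structure Emb (P : Sylow 2 G) (H : Subgroup G) (π : H →* autGrp P) : Prop where
  comm : IsMulCommutative (P : Subgroup G)
  el : ∀ u ∈ (P : Subgroup G), u * u = 1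
  acomm : ∀ α ∈ autGrp P, ∀ β ∈ autGrp P, α * β = β * α
  free : ∀ u : (P : Subgroup G), u ≠ 1 → IsFree P u
  le : (P : Subgroup G) ≤ H
  cent : ∀ u ∈ (P : Subgroup G), u ≠ 1 → Subgroup.centralizer ({u} : Set G) ≤ H
  act : ∀ (h : H) (u v : (P : Subgroup G)), (h : G) * u * (h : G)⁻¹ = v →
    (π h : MulAut (P : Subgroup G)) u = v
  se : IsStronglyEmbedded H

section

variable {H : Subgroup G} {π : H →* autGrp P} (c : Emb P H π)
include c

theorem Emb.invol {u : (P : Subgroup G)} (hu : u ≠ 1) : orderOf (u : G) = 2 :=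
  haveI : Fact (Nat.Prime 2) := ⟨Nat.prime_two⟩
  orderOf_eq_prime (by rw [pow_two, c.el u u.2]) fun e => hu (Subtype.ext e)

theorem Emb.act_eq_iff {u : (P : Subgroup G)} (hu : u ≠ 1) {α β : autGrp P}
    (h : (α : MulAut (P : Subgroup G)) u = (β : MulAut (P : Subgroup G)) u) : α = β := by
  have h1 := c.free u hu _ ((autGrp P).mul_mem ((autGrp P).inv_mem β.2) α.2) (by
    rw [MulAut.mul_apply, h, MulAut.inv_apply_self])
  exact (Subtype.ext (inv_mul_eq_one.mp h1).symm)

theorem Emb.fix_base (h : H) : (h : G) • (QuotientGroup.mk 1 : G ⧸ H) = QuotientGroup.mk 1 :=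
  Fusion.SEPairs.smul_mk_eq_iff.mpr (by simp)

theorem Emb.fix_base_of_mem {g : G} (hg : g ∈ H) :
    g • (QuotientGroup.mk 1 : G ⧸ H) = QuotientGroup.mk 1 := c.fix_base ⟨g, hg⟩

/-- An involution of `H` lies in no other conjugate. -/
theorem Emb.mem_of_conj {t y : G} (ht : orderOf t = 2) (htH : t ∈ H) (h : y⁻¹ * t * y ∈ H) : y ∈ H := by
  have h1 := Fusion.SEPairs.fixed_unique c.se ht (c.fix_base_of_mem htH)
    (Fusion.SEPairs.smul_mk_eq_iff.mpr h)
  rw [QuotientGroup.eq, inv_one, one_mul] at h1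
  exact h1

/-- Transitivity of the automizer. -/
theorem Emb.exists_aut {u v : (P : Subgroup G)} (hu : u ≠ 1) (hv : v ≠ 1) :
    ∃ α : autGrp P, (α : MulAut (P : Subgroup G)) u = v := by
  obtain ⟨α, hα, e⟩ :=
    exists_aut_of_isConj c.comm (Fusion.SEPairs.involutions_conj c.se (c.invol hu) (c.invol hv))
  exact ⟨⟨α, hα⟩, e⟩

/-- For a coset outside `H` every value of `π` is taken on an element inverted by a swapping involution. -/
theorem Emb.exists_inverted {x : (P : Subgroup G)} (hx : x ≠ 1) {y : G} (hy : y ∉ H) (e : autGrp P) :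
    ∃ (k : H) (z : G), z * k * z⁻¹ = (k : G)⁻¹ ∧ z⁻¹ * y ∈ H ∧ π k = e := by
  set a' : (P : Subgroup G) := (e⁻¹ : autGrp P).1 x with ha'
  have ha'1 : a' ≠ 1 := fun h => hx (by
    rw [ha'] at h
    exact (MulEquiv.map_eq_one_iff _).mp h)
  set b : G := y * x * y⁻¹ with hb
  have hbo : orderOf b = 2 := Fusion.SEPairs.conj_involution (c.invol hx) y
  set p₀ : G ⧸ H := QuotientGroup.mk 1 with hp₀
  set p₁ : G ⧸ H := QuotientGroup.mk y with hp₁
  have hne : p₀ ≠ p₁ := fun e => hy (by rw [hp₀, hp₁, QuotientGroup.eq, inv_one, one_mul] at e; exact e)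
  have hb1 : b • p₁ = p₁ := Fusion.SEPairs.smul_mk_eq_iff.mpr (by
    rw [hb, show y⁻¹ * (y * x * y⁻¹) * y = (x : G) by group]; exact c.le x.2)
  have hb0 : b • p₀ ≠ p₀ := fun e => hne (Fusion.SEPairs.fixed_unique c.se hbo e hb1)
  have hx0 := c.fix_base_of_mem (c.le x.2)
  have ha0 := c.fix_base_of_mem (c.le a'.2)
  obtain ⟨z, hz, hzx, -⟩ := Fusion.SEPairs.exists_middle (c.invol hx) hbo
    (Fusion.SEPairs.odd_of_fixed_ne c.se (c.invol hx) hbo hx0 hb0)
  obtain ⟨z', hz', hzx', -⟩ := Fusion.SEPairs.exists_middle (c.invol ha'1) hbo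
    (Fusion.SEPairs.odd_of_fixed_ne c.se (c.invol ha'1) hbo ha0 hb0)
  have move : ∀ {i a : G}, i * a * i⁻¹ = b → a • p₀ = p₀ → i • p₀ = p₁ := fun {i a} e h =>
    Fusion.SEPairs.fixed_unique c.se hbo (by rw [← e, mul_smul, mul_smul, inv_smul_smul, h]) hb1
  have hz0 := move hzx hx0
  have hz'0 := move hzx' ha0
  have hzi := Fusion.SEPairs.inv_self hz
  have hz'i := Fusion.SEPairs.inv_self hz'
  have hzz := Fusion.SEPairs.sq_one hz
  have hkH : z⁻¹ * z' ∈ H := by
    have h : (z⁻¹ * z') • p₀ = p₀ := by rw [mul_smul, hz'0, ← hz0, inv_smul_smul]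
    rw [hp₀, Fusion.SEPairs.smul_mk_eq_iff, inv_one, one_mul, mul_one] at h
    exact h
  refine ⟨⟨_, hkH⟩, z, ?_, ?_, c.act_eq_iff ha'1 ?_⟩
  · show z * (z⁻¹ * z') * z⁻¹ = (z⁻¹ * z')⁻¹
    rw [mul_inv_cancel_left, mul_inv_rev, inv_inv, hz'i, hzi]
  · rw [← QuotientGroup.eq]
    rw [hp₀, MulAction.Quotient.smul_mk, smul_eq_mul, mul_one] at hz0
    exact hz0
  · rw [c.act ⟨_, hkH⟩ a' x (by
      show z⁻¹ * z' * a' * (z⁻¹ * z')⁻¹ = x
      calc z⁻¹ * z' * a' * (z⁻¹ * z')⁻¹ = z⁻¹ * (z' * a' * z'⁻¹) * z := by group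
        _ = z⁻¹ * (z * x * z⁻¹) * z := by rw [hzx', hzx]
        _ = x := by group)]
    simp only [ha', InvMemClass.coe_inv, MulAut.apply_inv_self]

omit c in
/-- A linear character of the automizer read on `H`. -/
noncomputable def lamH (π : H →* autGrp P) (l : autGrp P →* ℂˣ) : H → ℂ := fun h => (l (π h) : ℂ)

theorem Emb.card_hom : Nat.card (autGrp P →* ℂˣ) = Nat.card (autGrp P) := by
  rw [card_hom_units]
  have h : commutator (autGrp P) = ⊥ := (commutator_eq_bot_iff _).mpr
    ⟨⟨fun a b => Subtype.ext (c.acomm a a.2 b b.2)⟩⟩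
  rw [h, Subgroup.index_bot]

theorem Emb.card_aut {x : (P : Subgroup G)} (hx : x ≠ 1) :
    Nat.card (autGrp P) + 1 = Nat.card (P : Subgroup G) := by
  classical
  have e : autGrp P ≃ {v : (P : Subgroup G) // v ≠ 1} := Equiv.ofBijective
    (fun α => ⟨(α : MulAut (P : Subgroup G)) x, fun h => hx ((MulEquiv.map_eq_one_iff _).mp h)⟩)
    ⟨fun α β h => c.act_eq_iff hx (congrArg Subtype.val h), fun v => by
      obtain ⟨α, h⟩ := c.exists_aut hx v.2
      exact ⟨α, Subtype.ext h⟩⟩
  haveI := Fintype.ofFinite (P : Subgroup G)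
  rw [Nat.card_congr e, Nat.card_eq_fintype_card, Nat.card_eq_fintype_card, Fintype.card_subtype_compl,
    Fintype.card_subtype_eq]
  have : 0 < Fintype.card (P : Subgroup G) := Fintype.card_pos
  omega

theorem Emb.odd_aut : Odd (Nat.card (autGrp P)) := odd_card_autGrp c.comm

/-- The inner products of the induced characters. -/
theorem Emb.inner [Fintype H] {x : (P : Subgroup G)} (hx : x ≠ 1) (l m : autGrp P →* ℂˣ)
    (hlm : l * m ≠ 1) :
    classInner (indFun H (lamH π l)) (indFun H (lamH π m)) = classInner (lamH π l) (lamH π m) := by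
  classical
  rw [frobenius H _ (isClassFunction_indFun H _)]
  simp only [classInner, indFun, map_mul, map_sum, map_inv₀, map_natCast, Finset.mul_sum]
  rw [Finset.sum_comm]
  set T : G → ℂ := fun y => ∑ h : H, (Nat.card H : ℂ)⁻¹ * (lamH π l h *
    ((Nat.card H : ℂ)⁻¹ * conj (extendByZero H (lamH π m) (y⁻¹ * (h : G) * y)))) with hT
  have hout : ∀ y : G, y ∉ H → T y = 0 := by
    intro y hy
    obtain ⟨e, he⟩ : ∃ e, l e * m e ≠ 1 := by
      by_contra h
      push Not at h
      exact hlm (MonoidHom.ext fun e => h e)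
    obtain ⟨k, z, hzk, hzy, hke⟩ := c.exists_inverted hx hy e
    obtain ⟨w, hw⟩ : ∃ w : H, (w : G) = z⁻¹ * y := ⟨⟨_, hzy⟩, rfl⟩
    have hk' : y⁻¹ * (k : G) * y = ((w⁻¹ * k⁻¹ * w : H) : G) := by
      have h1 : (k : G)⁻¹ = z * k * z⁻¹ := hzk.symm
      have h2 : z⁻¹ * (k : G) * z = (k : G)⁻¹ := by
        have h3 : (k : G) = z * (k : G)⁻¹ * z⁻¹ := by
          conv_lhs => rw [← inv_inv (k : G), h1]
          group
        conv_lhs => rw [h3]
        group
      rw [Subgroup.coe_mul, Subgroup.coe_mul, InvMemClass.coe_inv, InvMemClass.coe_inv, hw, ← h2]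
      group
    have hshift : ∀ h : H,
        lamH π l (k * h) * conj (extendByZero H (lamH π m) (y⁻¹ * ((k * h : H) : G) * y)) =
        ((l e * m e : ℂˣ) : ℂ) *
          (lamH π l h * conj (extendByZero H (lamH π m) (y⁻¹ * (h : G) * y))) := by
      intro h
      have e1 : y⁻¹ * ((k * h : H) : G) * y = (y⁻¹ * (k : G) * y) * (y⁻¹ * (h : G) * y) := by
        rw [Subgroup.coe_mul]; group
      rw [e1, hk']
      by_cases hh : y⁻¹ * (h : G) * y ∈ H
      · have e2 : ((w⁻¹ * k⁻¹ * w : H) : G) * (y⁻¹ * (h : G) * y) =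
            ((w⁻¹ * k⁻¹ * w * ⟨_, hh⟩ : H) : G) := rfl
        rw [e2, extendByZero_mem H _ (SetLike.coe_mem _), extendByZero_mem H _ hh]
        simp only [lamH, map_mul, map_inv, hke, Units.val_mul, Subtype.coe_eta]
        have hconj : conj ((((m e)⁻¹ : ℂˣ)) : ℂ) = (m e : ℂ) := by
          rw [← map_inv]
          exact (char_inv (isCharacter_linear m) e⁻¹).symm.trans (by rw [inv_inv])
        have hw1 : (((m (π w))⁻¹ : ℂˣ) : ℂ) * (m (π w) : ℂ) = 1 := by
          rw [← Units.val_mul, inv_mul_cancel, Units.val_one]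
        have hw2 := congrArg conj hw1
        rw [map_mul, map_one] at hw2
        linear_combination (l e : ℂ) * (l (π h) : ℂ) * conj (((m e)⁻¹ : ℂˣ) : ℂ) *
          conj (m (π ⟨_, hh⟩) : ℂ) * hw2 +
          (l e : ℂ) * (l (π h) : ℂ) * conj (m (π ⟨_, hh⟩) : ℂ) * hconj
      · have hh' : ((w⁻¹ * k⁻¹ * w : H) : G) * (y⁻¹ * (h : G) * y) ∉ H := fun h' =>
          hh ((H.mul_mem_cancel_left (SetLike.coe_mem _)).mp h')
        rw [extendByZero_not_mem H _ hh, extendByZero_not_mem H _ hh', map_zero, mul_zero, mul_zero,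
          mul_zero]
    have h1 : T y = ((l e * m e : ℂˣ) : ℂ) * T y := by
      conv_lhs => rw [hT]
      simp only
      rw [← Fintype.sum_equiv (Equiv.mulLeft k) _ _ fun h => rfl]
      simp only [Equiv.coe_mulLeft, hT, Finset.mul_sum]
      refine Finset.sum_congr rfl fun h _ => ?_
      linear_combination ((Nat.card H : ℂ)⁻¹ * (Nat.card H : ℂ)⁻¹) * hshift h
    have h2 : (((l e * m e : ℂˣ) : ℂ) - 1) * T y = 0 := by linear_combination -h1
    refine (mul_eq_zero.mp h2).resolve_left fun h3 => he (Units.ext ?_)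
    simpa using sub_eq_zero.mp h3
  rw [← Finset.sum_filter_add_sum_filter_not Finset.univ (fun y : G => y ∈ H),
    Finset.sum_eq_zero (s := Finset.univ.filter fun y : G => y ∉ H)
      (fun y hy => hout y (Finset.mem_filter.mp hy).2), add_zero,
    Finset.sum_subtype (Finset.univ.filter fun y : G => y ∈ H) (p := fun y => y ∈ H) (F := inferInstance)
      (fun y => by simp)]
  rw [Finset.sum_comm]
  refine Finset.sum_congr rfl fun h _ => ?_
  have hy : ∀ y : H, extendByZero H (lamH π m) ((y : G)⁻¹ * (h : G) * y) = lamH π m h := fun y => by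
    rw [show (y : G)⁻¹ * (h : G) * y = ((y⁻¹ * h * y : H) : G) by simp,
      extendByZero_mem H _ (SetLike.coe_mem _)]
    simp only [lamH, Subtype.coe_eta, map_mul, map_inv, Units.val_mul]
    have hw1 : (((m (π y))⁻¹ : ℂˣ) : ℂ) * (m (π y) : ℂ) = 1 := by
      rw [← Units.val_mul, inv_mul_cancel, Units.val_one]
    linear_combination (m (π h) : ℂ) * hw1
  simp only [hy, Finset.sum_const, Finset.card_univ, ← Nat.card_eq_fintype_card, nsmul_eq_mul]
  have hH : (Nat.card H : ℂ) ≠ 0 := Nat.cast_ne_zero.mpr Nat.card_pos.ne'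
  field_simp

open scoped Classical in
theorem Emb.surj : Function.Surjective π → ∀ (l m : autGrp P →* ℂˣ) [Fintype H],
    classInner (lamH π l) (lamH π m) = if l = m then 1 else 0 := by
  intro hπ l m _
  classical
  have h := irr_orth (isIrrCharacter_linear (l.comp π)) (isIrrCharacter_linear (m.comp π))
  rw [show lamH π l = fun h : H => ((l.comp π) h : ℂ) from rfl,
    show lamH π m = fun h : H => ((m.comp π) h : ℂ) from rfl, h]
  refine if_congr ⟨fun e => MonoidHom.ext fun a => ?_, fun e => by rw [e]⟩ rfl rfl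
  obtain ⟨h, rfl⟩ := hπ a
  exact Units.ext (congrFun e h)

open scoped Classical in
/-- In the embedded case the principal block has as many characters as the Sylow subgroup has elements. -/
theorem Emb.card_principal (hπ : Function.Surjective π) {M : Ideal AlgInt} (hM : IsPModular 2 M)
    {x : (P : Subgroup G)} (hx : x ≠ 1) :
    Nat.card (principalBlock M G) = Nat.card (P : Subgroup G) := by
  haveI : Fact (Nat.Prime 2) := ⟨Nat.prime_two⟩
  haveI : Fintype H := Fintype.ofFinite _
  haveI : Fintype (autGrp P →* ℂˣ) := by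
    haveI : Finite (autGrp P →* ℂˣ) := Nat.finite_of_card_ne_zero (α := autGrp P →* ℂˣ) (c.card_hom.trans_ne Nat.card_pos.ne')
    exact Fintype.ofFinite _
  obtain ⟨K, hc⟩ := exists_compl c.comm x.2 (c.el x x.2) (hnpc_of_free c.comm (c.free x hx))
  choose d hd using fun χ : IrrCharacter G =>
    char_involution_int (irr_isCharacter χ.2) (t := (x : G)) (by rw [pow_two]; exact c.el x x.2)
  set Λ := Finset.univ.filter fun l : autGrp P →* ℂˣ => l ≠ 1 with hΛ
  have hodd : ∀ l : autGrp P →* ℂˣ, l * l = 1 → l = 1 := by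
    intro l h
    obtain ⟨j, hj⟩ := c.odd_aut
    refine MonoidHom.ext fun a => ?_
    have h1 : l a ^ Nat.card (autGrp P) = 1 := by rw [← map_pow, pow_card_eq_one', map_one]
    have h2 : l a * l a = 1 := DFunLike.congr_fun h a
    rw [hj, pow_succ, pow_mul, pow_two, h2, one_pow, one_mul] at h1
    exact h1
  have hirr : ∀ l ∈ Λ, IsIrrCharacter G (indFun H (lamH π l)) := fun l hl => by
    refine isIrr_of_norm_one (isCharacter_indFun H (isCharacter_linear (l.comp π))) ?_
    rw [c.inner hx l l fun h => (Finset.mem_filter.mp hl).2 (hodd l h), c.surj hπ, if_pos rfl]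
  set one : IrrCharacter G := ⟨fun _ => 1, isIrrCharacter_one⟩ with hone
  let χ : (autGrp P →* ℂˣ) → IrrCharacter G := fun l =>
    if h : l ∈ Λ then ⟨_, hirr l h⟩ else one
  have hχ : ∀ l, l ∈ Λ → (χ l : G → ℂ) = indFun H (lamH π l) := fun l hl => by simp [χ, hl]
  -- values on the section
  have hval : ∀ (l : autGrp P →* ℂˣ) (v : Subgroup.centralizer ({(x : G)} : Set G)), v ∈ K →
      indFun H (lamH π l) ((x : G) * (v : G)) = 1 := by
    intro l v hv
    haveI := hc.normal
    obtain ⟨k, hk⟩ := hc.index_pow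
    have hreg := (regular_iff_mem_of_index Nat.prime_two K hc.odd hk v).mpr hv
    have hvo : ¬ 2 ∣ orderOf (v : G) := by rwa [Subgroup.orderOf_coe]
    have hxv : Commute (x : G) (v : G) := (Subgroup.mem_centralizer_singleton_iff.mp v.2).symm
    have hvH : (v : G) ∈ H := c.cent x x.2 (fun e => hx (Subtype.ext e)) v.2
    have hval1 : π ⟨(x : G) * v, H.mul_mem (c.le x.2) hvH⟩ = 1 := by
      refine c.act_eq_iff hx ?_
      rw [c.act _ x x ?_]
      · rfl
      show (x : G) * v * x * ((x : G) * v)⁻¹ = x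
      calc (x : G) * v * x * ((x : G) * v)⁻¹ = x * (v * x) * ((x : G) * v)⁻¹ := by group
        _ = x * (x * v) * ((x : G) * v)⁻¹ := by rw [hxv.eq]
        _ = x := by group
    have hin : ∀ y : G, y⁻¹ * ((x : G) * v) * y ∈ H → y ∈ H := by
      intro y hy
      refine c.mem_of_conj (c.invol hx) (c.le x.2) ?_
      set m := orderOf (v : G) with hm
      have hmo : Odd m := Nat.not_even_iff_odd.mp fun h => hvo (even_iff_two_dvd.mp h)
      have hpow : ((x : G) * v) ^ m = x := by
        rw [hxv.mul_pow, hm, pow_orderOf_eq_one, mul_one]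
        obtain ⟨j, hj⟩ := hmo
        rw [← hm, hj, pow_succ, pow_mul, pow_two, c.el x x.2, one_pow, one_mul]
      have := H.pow_mem hy m
      rwa [show y⁻¹ * ((x : G) * v) * y = y⁻¹ * ((x : G) * v) * y⁻¹⁻¹ by rw [inv_inv], conj_pow, hpow,
        inv_inv] at this
    simp only [indFun]
    rw [← Finset.sum_filter_add_sum_filter_not Finset.univ (fun y : G => y ∈ H),
      Finset.sum_eq_zero (s := Finset.univ.filter fun y : G => y ∉ H) (fun y hy =>
        extendByZero_not_mem H _ fun h => (Finset.mem_filter.mp hy).2 (hin y h)), add_zero,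
      Finset.sum_congr rfl (g := fun _ => (1 : ℂ)) fun y hy => by
        have hyH := (Finset.mem_filter.mp hy).2
        rw [extendByZero_mem H _ (H.mul_mem (H.mul_mem (H.inv_mem hyH) (H.mul_mem (c.le x.2) hvH)) hyH)]
        show (l (π ((⟨y, hyH⟩ : H)⁻¹ * ⟨_, H.mul_mem (c.le x.2) hvH⟩ * ⟨y, hyH⟩)) : ℂ) = 1
        simp only [map_mul, map_inv, hval1, map_one, mul_one, inv_mul_cancel, Units.val_one],
      Finset.sum_const, nsmul_one]
    have hcard : (Finset.univ.filter fun y : G => y ∈ H).card = Nat.card H := by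
      rw [Nat.card_eq_fintype_card, Fintype.card_subtype]
    rw [hcard, inv_mul_cancel₀ (Nat.cast_ne_zero.mpr Nat.card_pos.ne')]
  have hdT : ∀ l ∈ Λ, d (χ l) = 1 := by
    intro l hl
    have h := hd (χ l)
    rw [hχ l hl] at h
    have h1 := hval l 1 K.one_mem
    rw [OneMemClass.coe_one, mul_one, h] at h1
    exact_mod_cast h1
  have hmem : ∀ l ∈ Λ, χ l ∈ principalBlock M G := fun l hl =>
    hc.mem_of_const hM fun v hv => by rw [hχ l hl]; exact hval l v hv
  -- the conjugate character
  have hbar : ∀ l : autGrp P →* ℂˣ, (fun g => conj (indFun H (lamH π l) g)) = indFun H (lamH π l⁻¹) := by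
    intro l
    funext g
    simp only [indFun, map_mul, map_inv₀, map_natCast, map_sum]
    congr 1
    refine Finset.sum_congr rfl fun y _ => ?_
    by_cases hy : y⁻¹ * g * y ∈ H
    · rw [extendByZero_mem H _ hy, extendByZero_mem H _ hy]
      simp only [lamH, MonoidHom.inv_apply]
      rw [← map_inv]
      exact ((char_inv (isCharacter_linear l) (π ⟨_, hy⟩)).symm)
    · rw [extendByZero_not_mem H _ hy, extendByZero_not_mem H _ hy, map_zero]
  have hinvΛ : ∀ l ∈ Λ, l⁻¹ ∈ Λ := fun l hl =>
    Finset.mem_filter.mpr ⟨Finset.mem_univ _, fun h => (Finset.mem_filter.mp hl).2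
      (MonoidHom.ext fun a => by simpa using DFunLike.congr_fun h a)⟩
  have heq : ∀ a b : autGrp P →* ℂˣ, a * b = 1 ↔ a = b⁻¹ := fun a b =>
    ⟨fun h => MonoidHom.ext fun g => mul_eq_one_iff_eq_inv.mp (DFunLike.congr_fun h g),
      fun h => MonoidHom.ext fun g => mul_eq_one_iff_eq_inv.mpr (DFunLike.congr_fun h g)⟩
  have hfib : ∀ l ∈ Λ, ∀ m ∈ Λ, χ m = χ l → m = l ∨ m = l⁻¹ := by
    intro l hl m hm h
    by_contra hne
    push Not at hne
    have h1 : classInner (χ m : G → ℂ) (χ l : G → ℂ) = 1 := by rw [h]; exact irr_self (χ l).2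
    rw [hχ l hl, hχ m hm, c.inner hx m l fun e => hne.2 ((heq _ _).mp e), c.surj hπ,
      if_neg hne.1] at h1
    exact zero_ne_one h1
  have hdeg : ∀ l ∈ Λ, (χ l : G → ℂ) 1 = (H.index : ℂ) := fun l hl => by
    rw [hχ l hl, indFun_one]
    simp [lamH]
  have hHodd : Odd H.index := by
    rw [← Nat.not_even_iff_odd, even_iff_two_dvd]
    exact fun h => P.not_dvd_index (h.trans (Subgroup.index_dvd_of_le c.le))
  have hH1 : H.index ≠ 1 := fun h => c.se.1 (Subgroup.index_eq_one.mp h)
  -- the indicators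
  have hν : ∀ χ : IrrCharacter G, ∃ n : ℤ, indicator2 (χ : G → ℂ) = n ∧ -1 ≤ n ∧ n ≤ 1 := fun χ => by
    rcases (indicator_trichotomy χ.2).1 with h | h | h
    · exact ⟨0, by simp [h], by norm_num, by norm_num⟩
    · exact ⟨1, by simp [h], by norm_num, le_rfl⟩
    · exact ⟨-1, by simp [h], le_rfl, by norm_num⟩
  choose ν hν hνl hνu using hν
  set T := Λ.image χ with hT
  have hfibcard : ∀ t ∈ T, ((Λ.filter fun l => χ l = t).card : ℤ) = 1 + ν t := by
    intro t ht
    obtain ⟨l, hl, rfl⟩ := Finset.mem_image.mp ht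
    by_cases hreal : ∀ g, ((χ l : G → ℂ) g).im = 0
    · have h1 : ν (χ l) = 1 := by
        have h := indicator_odd_deg (χ l).2 hreal H.index (hdeg l hl) hHodd
        rw [hν] at h
        exact_mod_cast h
      have h2 : χ l⁻¹ = χ l := by
        refine Subtype.ext ?_
        rw [hχ _ (hinvΛ l hl), ← hbar, hχ l hl]
        funext g
        refine Complex.conj_eq_iff_im.mpr ?_
        have := hreal g
        rwa [hχ l hl] at this
      have h3 : (Λ.filter fun m => χ m = χ l) = {l, l⁻¹} := by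
        ext m
        simp only [Finset.mem_filter, Finset.mem_insert, Finset.mem_singleton]
        refine ⟨fun h => hfib l hl m h.1 h.2, ?_⟩
        rintro (rfl | rfl)
        exacts [⟨hl, rfl⟩, ⟨hinvΛ l hl, h2⟩]
      rw [h3, Finset.card_pair (fun e => (Finset.mem_filter.mp hl).2 (hodd l ((heq _ _).mpr e))),
        h1]
      norm_num
    · have h1 : ν (χ l) = 0 := by
        have h := (indicator_trichotomy (χ l).2).2.mpr (by push Not at hreal; exact hreal)
        rw [hν] at h
        exact_mod_cast h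
      have h3 : (Λ.filter fun m => χ m = χ l) = {l} := by
        ext m
        simp only [Finset.mem_filter, Finset.mem_singleton]
        refine ⟨fun h => (hfib l hl m h.1 h.2).resolve_right fun e => hreal fun g => ?_, ?_⟩
        · subst e
          have e2 := congrFun (congrArg Subtype.val h.2) g
          rw [hχ _ h.1, hχ l hl, ← hbar] at e2
          rw [hχ l hl]
          exact Complex.conj_eq_iff_im.mp e2
        · rintro rfl
          exact ⟨hl, rfl⟩
      rw [h3, Finset.card_singleton, h1]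
      norm_num
  have honeT : one ∉ T := by
    intro h
    obtain ⟨l, hl, e⟩ := Finset.mem_image.mp h
    have h1 := hdeg l hl
    rw [e] at h1
    have h2 : (1 : ℂ) = (H.index : ℂ) := h1
    exact hH1 (by exact_mod_cast h2.symm)
  set S := Finset.univ.filter fun χ : IrrCharacter G => χ ∈ principalBlock M G with hS
  have hsub : insert one T ⊆ S := by
    intro t ht
    refine Finset.mem_filter.mpr ⟨Finset.mem_univ _, ?_⟩
    rcases Finset.mem_insert.mp ht with rfl | h
    · exact one_mem_principal hM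
    · obtain ⟨l, hl, rfl⟩ := Finset.mem_image.mp h
      exact hmem l hl
  have hd1 : d one = 1 := by
    have h : (1 : ℂ) = (d one : ℂ) := hd one
    exact_mod_cast h.symm
  have hν1 : ν one = 1 := by
    have h := hν one
    simp only [indicator2, hone, Finset.sum_const, Finset.card_univ, nsmul_one,
      ← Nat.card_eq_fintype_card, inv_mul_cancel₀ (Nat.cast_ne_zero.mpr Nat.card_pos.ne' :
        (Nat.card G : ℂ) ≠ 0)] at h
    exact_mod_cast h.symm
  have hdt : ∀ t ∈ T, d t = 1 := fun t ht => by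
    obtain ⟨l, hl, rfl⟩ := Finset.mem_image.mp ht
    exact hdT l hl
  have hΛcard : (Λ.card : ℤ) = (Nat.card (P : Subgroup G) : ℤ) - 2 := by
    have h1 : Λ.card + 1 = Nat.card (autGrp P) := by
      rw [← c.card_hom, hΛ, Finset.filter_ne', Finset.card_erase_of_mem (Finset.mem_univ _),
        Finset.card_univ, ← Nat.card_eq_fintype_card]
      have : 0 < Nat.card (autGrp P →* ℂˣ) := Nat.card_pos
      omega
    have := c.card_aut hx
    omega
  have hTν : ∑ t ∈ T, (1 + ν t) = (Nat.card (P : Subgroup G) : ℤ) - 2 := by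
    rw [← hΛcard, Finset.sum_congr rfl fun t ht => (hfibcard t ht).symm, ← Nat.cast_sum,
      ← Finset.card_eq_sum_card_image χ Λ]
  have hsq := hc.sum_sq hM d hd
  have hind : ∑ χ ∈ S, ν χ * d χ = 0 := by
    have h := hc.sum_indicator hM c.el fun e => hx (Subtype.ext e)
    simp only [hν, hd] at h
    exact_mod_cast h
  rw [← hS] at hsq
  rw [← Finset.sum_sdiff hsub, Finset.sum_insert honeT, hd1,
    Finset.sum_congr (s₁ := T) rfl fun t ht => by rw [hdt t ht]] at hsq
  rw [← Finset.sum_sdiff hsub, Finset.sum_insert honeT, hd1, hν1,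
    Finset.sum_congr (s₁ := T) rfl fun t ht => by rw [hdt t ht, mul_one]] at hind
  rw [Finset.sum_add_distrib, Finset.sum_const, nsmul_one] at hTν
  simp only [one_pow, Finset.sum_const, nsmul_one] at hsq
  set R := S \ insert one T with hR
  have hd0 : ∀ r ∈ R, d r ≠ 0 := fun r hr e =>
    hc.value_ne_zero hM (Finset.mem_filter.mp (Finset.mem_sdiff.mp hr).1).2 (by rw [hd, e, Int.cast_zero])
  have hle : ∀ r, -(ν r * d r) ≤ |d r| := fun r => by
    have h1 := le_abs_self (d r)
    have h2 := neg_abs_le (d r)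
    have h3 : -1 ≤ ν r := hνl r
    have h4 : ν r ≤ 1 := hνu r
    rcases (show ν r = -1 ∨ ν r = 0 ∨ ν r = 1 by omega) with h | h | h <;> rw [h] <;> omega
  have hge : ∀ r ∈ R, 0 ≤ d r ^ 2 + ν r * d r := fun r hr => by
    have h1 := hle r
    have h2 : 1 ≤ |d r| := Int.one_le_abs (hd0 r hr)
    nlinarith [sq_abs (d r)]
  have hzero : ∑ r ∈ R, (d r ^ 2 + ν r * d r) = 0 := by
    rw [Finset.sum_add_distrib]
    linarith
  have hone_all : ∀ r ∈ R, d r ^ 2 = 1 := by
    intro r hr
    have h0 := (Finset.sum_eq_zero_iff_of_nonneg hge).mp hzero r hr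
    have h1 := hle r
    have h2 : 1 ≤ |d r| := Int.one_le_abs (hd0 r hr)
    have h3 : |d r| * |d r| ≤ |d r| * 1 := by nlinarith [sq_abs (d r)]
    have h4 := le_of_mul_le_mul_left h3 (by omega)
    rw [← sq_abs, show |d r| = 1 by omega, one_pow]
  rw [Finset.sum_congr rfl hone_all, Finset.sum_const, nsmul_one] at hsq
  have hk : Nat.card (principalBlock M G) = R.card + (insert one T).card := by
    rw [Nat.card_eq_fintype_card, Fintype.card_subtype, hR, Finset.card_sdiff_add_card_eq_card hsub]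
  rw [hk, Finset.card_insert_of_notMem honeT]
  omega

end

end Cfsg.Agent.Char.FreeInv
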