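import Cfsg.Agent.Lib.Char.FreeInvolution.Basic
import Cfsg.Agent.Lib.SSF.Main
import Cfsg.Agent.S0205
import Mathlib

/-!
# The odd subgroup generated by the odd parts of the centralizers of a free elementary Sylow 2-subgroup
-/

set_option autoImplicit false
set_option linter.unusedSectionVars false
set_option linter.style.haveILetI false

namespace Cfsg.Agent.Char.FreeInv

open Cfsg

universe u

variable {G : Type u} [Group G] [Finite G] {P : Sylow 2 G}

/-- The elements of odd order in the centralizer of `a` generate this subgroup. -/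
noncomputable def theta (a : G) : Subgroup G :=
  (pResidual 2 (Subgroup.centralizer ({a} : Set G))).map
    (Subgroup.centralizer ({a} : Set G)).subtype

theorem theta_le (a : G) : theta a ≤ Subgroup.centralizer ({a} : Set G) := Subgroup.map_subtype_le _

theorem mem_theta {a g : G} (h : HasNormalPComplement 2 (Subgroup.centralizer ({a} : Set G))) :
    g ∈ theta a ↔ g ∈ Subgroup.centralizer ({a} : Set G) ∧ Nat.Coprime (orderOf g) 2 := by
  haveI : Fact (Nat.Prime 2) := ⟨Nat.prime_two⟩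
  constructor
  · rintro ⟨c, hc, rfl⟩
    exact ⟨c.2, by rw [Subgroup.coe_subtype, Subgroup.orderOf_coe]; exact (Fusion.hnpc_mem_iff h).mp hc⟩
  · rintro ⟨hg, ho⟩
    exact ⟨⟨g, hg⟩, (Fusion.hnpc_mem_iff h).mpr (by rwa [Subgroup.orderOf_mk]), rfl⟩

/-- The odd subgroup generated by the odd parts of the centralizers. -/
theorem exists_signalizer (hab : IsMulCommutative (P : Subgroup G))
    (hel : ∀ u ∈ (P : Subgroup G), u * u = 1) (h8 : 8 ≤ Nat.card (P : Subgroup G))
    (hfree : ∀ u : (P : Subgroup G), u ≠ 1 → IsFree P u) :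
    ∃ W : Subgroup G, ¬ 2 ∣ Nat.card W ∧
      Subgroup.normalizer ((P : Subgroup G) : Set G) ≤ Subgroup.normalizer (W : Set G) ∧
      ∀ u ∈ (P : Subgroup G), u ≠ 1 → Subgroup.centralizer ({u} : Set G) ≤ W ⊔ (P : Subgroup G) := by
  haveI : Fact (Nat.Prime 2) := ⟨Nat.prime_two⟩
  set A : Subgroup G := (P : Subgroup G)
  have hnp : ∀ u ∈ A, u ≠ 1 → HasNormalPComplement 2 (Subgroup.centralizer ({u} : Set G)) :=
    fun u hu hu1 => hnpc_of_free hab (u := ⟨u, hu⟩) (hfree _ fun e => hu1 (congrArg Subtype.val e))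
  have hA : IsElementaryAbelian 2 A := ⟨hab, fun a ha => by rw [pow_two, hel a ha]⟩
  have hodd : ∀ u ∈ A, u ≠ 1 → Odd (Nat.card (theta u)) := by
    intro u hu hu1
    rw [theta, Subgroup.card_map_of_injective (Subgroup.subtype_injective _)]
    exact Nat.coprime_two_right.mp (Fusion.hnpc_iff.mp (hnp u hu hu1))
  have hθ : IsSolvableSignalizerFunctor 2 A theta := by
    refine ⟨⟨fun a _ _ => theta_le a,
      fun a ha ha1 h => Nat.not_even_iff_odd.mpr (hodd a ha ha1) (even_iff_two_dvd.mpr h), ?_, ?_⟩,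
      fun a ha ha1 => S0205.result (hodd a ha ha1)⟩
    · intro a ha ha1 b hb g hg
      rw [mem_theta (hnp a ha ha1)] at hg ⊢
      have hbC := le_centralizer_singleton hab ha hb
      refine ⟨mul_mem (mul_mem hbC hg.1) (inv_mem hbC), ?_⟩
      rw [← MulAut.conj_apply, MulEquiv.orderOf_eq]
      exact hg.2
    · rintro a ha ha1 b hb hb1 g ⟨hg, hgb⟩
      exact (mem_theta (hnp b hb hb1)).mpr ⟨hgb, ((mem_theta (hnp a ha ha1)).mp hg).2⟩
  set W : Subgroup G := ⨆ a : {a : G // a ∈ A ∧ a ≠ 1}, theta (a : G) with hW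
  obtain ⟨hfam, -⟩ := SSF.complete_of_odd hA (by norm_num; exact h8) hθ hodd
  refine ⟨W, hfam.2.1, ?_, ?_⟩
  · have key : ∀ n ∈ Subgroup.normalizer (A : Set G), ∀ w ∈ W, n * w * n⁻¹ ∈ W := by
      intro n hn
      have h : W ≤ W.comap (MulAut.conj n).toMonoidHom := by
        refine iSup_le fun a g hg => ?_
        obtain ⟨hg1, hg2⟩ := (mem_theta (hnp _ a.2.1 a.2.2)).mp hg
        have hna : n * a * n⁻¹ ∈ A := (Subgroup.mem_normalizer_iff.mp hn _).mp a.2.1
        have hna1 : n * (a : G) * n⁻¹ ≠ 1 := fun e => a.2.2 (conj_eq_one_iff.mp e)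
        refine Subgroup.mem_comap.mpr
          (le_iSup (fun b : {b : G // b ∈ A ∧ b ≠ 1} => theta (b : G)) ⟨_, hna, hna1⟩ ?_)
        refine (mem_theta (hnp _ hna hna1)).mpr ⟨Subgroup.mem_centralizer_singleton_iff.mpr ?_, ?_⟩
        · show n * g * n⁻¹ * (n * a * n⁻¹) = n * a * n⁻¹ * (n * g * n⁻¹)
          rw [conj_mul, conj_mul, Subgroup.mem_centralizer_singleton_iff.mp hg1]
        · show Nat.Coprime (orderOf (MulAut.conj n g)) 2
          rw [MulEquiv.orderOf_eq]
          exact hg2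
      exact fun w hw => h hw
    intro n hn
    refine Subgroup.mem_normalizer_iff.mpr fun w => ⟨key n hn w, fun h => ?_⟩
    have h2 := key n⁻¹ (inv_mem hn) _ h
    rwa [show n⁻¹ * (n * w * n⁻¹) * n⁻¹⁻¹ = w by group] at h2
  · intro u hu hu1
    have hPC := le_centralizer_singleton hab hu
    obtain ⟨K, hKn, hK⟩ := Fusion.hnpc_exists_complement (hnp u hu hu1) (P.subtype hPC)
    intro g hg
    obtain ⟨⟨k, p⟩, hkp⟩ := hK.existsUnique (⟨g, hg⟩ : Subgroup.centralizer ({u} : Set G)) |>.exists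
    have hk : ((k : Subgroup.centralizer ({u} : Set G)) : G) ∈ W := by
      refine le_iSup (fun b : {b : G // b ∈ A ∧ b ≠ 1} => theta (b : G)) ⟨u, hu, hu1⟩
        ((mem_theta (hnp u hu hu1)).mpr ⟨(k : Subgroup.centralizer ({u} : Set G)).2, ?_⟩)
      rw [Subgroup.orderOf_coe]
      exact (Fusion.coprime_card_of_isComplement' hK).coprime_dvd_left
        (Subgroup.orderOf_coe k ▸ orderOf_dvd_natCard k)
    have e : ((k : Subgroup.centralizer ({u} : Set G)) : G) * (p : Subgroup.centralizer ({u} : Set G)) = g :=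
      congrArg Subtype.val hkp
    rw [← e]
    exact mul_mem (Subgroup.mem_sup_left hk) (Subgroup.mem_sup_right p.2)

end Cfsg.Agent.Char.FreeInv
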