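import Cfsg.Agent.Lib.Char.FreeInvolution.PlanesCase
import Cfsg.Agent.Lib.Char.StableAbelianDefect
import Cfsg.Agent.S4652
import Mathlib

/-!
# Principal 2-blocks with abelian Sylow subgroup and an involution with 2-nilpotent centralizer
-/

set_option autoImplicit false
set_option linter.unusedSectionVars false
set_option linter.style.haveILetI false

namespace Cfsg.Agent.Char.FreeInv

open Cfsg Cfsg.Agent.Char
open scoped ComplexConjugate

universe u

variable {G : Type u} [Group G] [Fintype G] {P : Sylow 2 G}

/-- The case without normal subgroup of index two. -/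
theorem top_case {M : Ideal AlgInt} (hM : IsPModular 2 M) (hab : IsMulCommutative (P : Subgroup G))
    (htop : pResidual 2 G = ⊤) {x : (P : Subgroup G)}
    (hx : HasNormalPComplement 2 (Subgroup.centralizer ({(x : G)} : Set G)))
    (hcard : Nat.card (P : Subgroup G) = 8 ∨ Nat.card (P : Subgroup G) = 16) :
    (Nat.card (P : Subgroup G) = 8 → Nat.card (principalBlock M G) = 8) ∧
      (Nat.card (P : Subgroup G) = 16 →
        Nat.card (principalBlock M G) = 8 ∨ Nat.card (principalBlock M G) = 16) := by
  classical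
  haveI : Fact (Nat.Prime 2) := ⟨Nat.prime_two⟩
  have hfix : ∀ u : (P : Subgroup G), (∀ α ∈ autGrp P, α u = u) → u = 1 := fun u hu =>
    eq_one_of_fixed hab htop hu
  have hfx := free_of_hnpc hab hx
  have hle : Nat.card (autGrp P) ≤ 15 := by
    have h : Nat.card (autGrp P) ≤ Nat.card (P : Subgroup G) :=
      Nat.card_le_card_of_injective (fun α : autGrp P => (α : MulAut (P : Subgroup G)) x) fun α β e => by
        have h1 := hfx _ ((autGrp P).mul_mem ((autGrp P).inv_mem β.2) α.2) (by
          rw [MulAut.mul_apply, show (α : MulAut (P : Subgroup G)) x = (β : MulAut (P : Subgroup G)) x from e,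
            MulAut.inv_apply_self])
        exact (Subtype.ext (inv_mul_eq_one.mp h1).symm)
    obtain ⟨k, hk⟩ := odd_card_autGrp hab
    omega
  have hcomm : ∀ α ∈ autGrp P, ∀ β ∈ autGrp P, α * β = β * α := fun α hα β hβ =>
    congrArg Subtype.val (comm_of_odd_le (odd_card_autGrp hab) hle ⟨α, hα⟩ ⟨β, hβ⟩)
  by_cases hfree : ∀ u : (P : Subgroup G), u ≠ 1 → IsFree P u
  · exact regular_case hM hab hfix hcomm hfree hcard
  · unfold IsFree at hfree
    push Not at hfree
    obtain ⟨u, hu, σ, hσ, hσu, hσ1⟩ := hfree
    obtain ⟨h16, A, B, h⟩ := planes_of_not_free hab hfix hcomm hcard hu hσ hσu hσ1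
    exact ⟨fun h8 => by omega, fun _ => Or.inr (h.invariants hM).1⟩

/-- The element of a normal subgroup with 2-power index obtained from an involution. -/
theorem exists_part (hab : IsMulCommutative (P : Subgroup G)) (N : Subgroup G) [N.Normal]
    (hNP : N ⊔ (P : Subgroup G) = ⊤) {x : (P : Subgroup G)} (hsq : x * x = 1)
    (hx : HasNormalPComplement 2 (Subgroup.centralizer ({(x : G)} : Set G))) :
    ∃ y : (P : Subgroup G), (y : G) ∈ N ∧ y * y = 1 ∧
      HasNormalPComplement 2 (Subgroup.centralizer ({(y : G)} : Set G)) := by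
  classical
  haveI : Fact (Nat.Prime 2) := ⟨Nat.prime_two⟩
  haveI := hab
  letI : CommGroup (P : Subgroup G) :=
    { (inferInstance : Group (P : Subgroup G)) with mul_comm := fun a b => mul_comm' a b }
  haveI : Fintype (autGrp P) := Fintype.ofFinite _
  set q : (P : Subgroup G) := ∏ α : autGrp P, (α : MulAut (P : Subgroup G)) x with hq
  have hqfix : ∀ β : autGrp P, (β : MulAut (P : Subgroup G)) q = q := by
    intro β
    rw [hq, map_prod]
    exact Fintype.prod_equiv (Equiv.mulLeft β) _ _ fun α => rfl
  have hq2 : q * q = 1 := by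
    rw [hq, ← Finset.prod_mul_distrib]
    exact Finset.prod_eq_one fun α _ => by rw [← map_mul, hsq, map_one]
  have hmod : ∀ α : autGrp P, (((α : MulAut (P : Subgroup G)) x : (P : Subgroup G)) : G) * (x : G)⁻¹ ∈ N := by
    rintro ⟨_, ⟨⟨n, hn⟩, rfl⟩⟩
    show n * x * n⁻¹ * (x : G)⁻¹ ∈ N
    have hn' : n ∈ ((N ⊔ (P : Subgroup G) : Subgroup G) : Set G) := hNP ▸ Subgroup.mem_top n
    rw [Subgroup.normal_mul] at hn'
    obtain ⟨m, hm, p, hp, rfl⟩ := Set.mem_mul.mp hn'
    rw [show m * p * x * (m * p)⁻¹ * (x : G)⁻¹ = m * (p * x * p⁻¹ * m⁻¹ * (x : G)⁻¹) by group,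
      comm_of_isMulCommutative hab hp x.2, mul_inv_cancel_right]
    exact mul_mem hm (Subgroup.Normal.conj_mem inferInstance _ (inv_mem hm) _)
  refine ⟨x * q, ?_, by rw [mul_mul_mul_comm, hsq, hq2, one_mul], ?_⟩
  · have hkey : ∀ s : Finset (autGrp P),
        ((∏ α ∈ s, ((α : MulAut (P : Subgroup G)) x * x⁻¹) : (P : Subgroup G)) : G) ∈ N := by
      intro s
      induction s using Finset.induction_on with
      | empty => simp
      | insert a s ha ih =>
        rw [Finset.prod_insert ha, Subgroup.coe_mul]
        exact mul_mem (hmod a) ih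
    have e : x * q = ∏ α : autGrp P, ((α : MulAut (P : Subgroup G)) x * x⁻¹) := by
      rw [Finset.prod_mul_distrib, ← hq, Finset.prod_const, Finset.card_univ, mul_comm x q]
      congr 1
      obtain ⟨k, hk⟩ := odd_card_autGrp hab
      rw [← Nat.card_eq_fintype_card, hk, pow_succ, pow_mul, pow_two, ← mul_inv, hsq, inv_one, one_pow,
        one_mul, eq_inv_iff_mul_eq_one, hsq]
    rw [e]
    exact hkey _
  · refine hnpc_of_free hab fun α hα h => free_of_hnpc hab hx α hα ?_
    rw [map_mul, hqfix ⟨α, hα⟩] at h
    exact mul_right_cancel h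

/-- Sylow subgroups of order at most sixteen. -/
theorem card_principal : ∀ (n : ℕ) (G : Type u) [Group G] [Fintype G], Nat.card G = n →
    ∀ (M : Ideal AlgInt), IsPModular 2 M → ∀ (P : Sylow 2 G), IsMulCommutative (P : Subgroup G) →
    ∀ x : (P : Subgroup G), x * x = 1 →
    HasNormalPComplement 2 (Subgroup.centralizer ({(x : G)} : Set G)) →
    Nat.card (P : Subgroup G) ∣ 16 →
    (Nat.card (P : Subgroup G) ≤ 8 → Nat.card (principalBlock M G) = Nat.card (P : Subgroup G)) ∧
      (Nat.card (P : Subgroup G) = 16 →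
        Nat.card (principalBlock M G) = 8 ∨ Nat.card (principalBlock M G) = 16) := by
  intro n
  induction n using Nat.strong_induction_on with
  | _ n ih =>
    intro G _ _ hn M hM P hab x hsq hx hdvd
    classical
    haveI : Fact (Nat.Prime 2) := ⟨Nat.prime_two⟩
    have hle16 : Nat.card (P : Subgroup G) ≤ 16 := Nat.le_of_dvd (by norm_num) hdvd
    set N := pResidual 2 G with hNdef
    by_cases htop : N = ⊤
    · by_cases hsmall : Nat.card (P : Subgroup G) ≤ 4
      · obtain ⟨K, hc⟩ := exists_compl hab x.2 (congrArg Subtype.val hsq) hx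
        exact ⟨fun _ => hc.card_small hM hsmall, fun h => by omega⟩
      · have hcase : Nat.card (P : Subgroup G) = 8 ∨ Nat.card (P : Subgroup G) = 16 := by
          interval_cases h : Nat.card (P : Subgroup G) <;> omega
        obtain ⟨h8, h16⟩ := top_case hM hab htop hx hcase
        exact ⟨fun h => by
          have e : Nat.card (P : Subgroup G) = 8 := by omega
          rw [h8 e, e], h16⟩
    · haveI : Fintype N := Fintype.ofFinite _
      obtain ⟨k, hk⟩ := IsPGroup.iff_card.mp (Fusion.isPGroup_quotient_pResidual (p := 2) (G := G))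
      rw [← hNdef, ← Subgroup.index_eq_card] at hk
      have hP := pmod_prime hM
      have hstab : ∀ g : G, StabilizesBlock N (principalBlock M N) g := by
        intro g
        refine ⟨by rw [Subgroup.normalizer_eq_top]; exact Subgroup.mem_top g, fun χ hχ => ?_⟩
        refine ⟨irrComp (MulAut.conjNormal g⁻¹ : N ≃* N) χ, ?_, fun a b e => ?_⟩
        · exact sameBlock_irrComp (MulAut.conjNormal g⁻¹) (χ := ⟨fun _ => 1, isIrrCharacter_one⟩) hχ
        · rw [irrComp_apply]
          refine congrArg _ (Subtype.ext ?_)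
          rw [MulAut.conjNormal_apply, e]
          group
      obtain ⟨hsup, hdef, -, -, hcard, -⟩ := stable_abelian_defect hM hk
        (isPBlock_principalBlock (G := N) M) hstab (isPBlock_principalBlock (G := G) M)
        ⟨⟨fun _ => 1, isIrrCharacter_one⟩, one_mem_principal hM, ⟨fun _ => 1, isIrrCharacter_one⟩,
          one_mem_principal hM, by
            show classInner (fun _ : N => (1 : ℂ)) (fun _ => 1) ≠ 0
            rw [irr_self isIrrCharacter_one]
            exact one_ne_zero⟩
        ((S4652.result 2 M hM _).mpr ⟨P, rfl⟩)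
        (fun a ha b hb => comm_of_isMulCommutative hab ha hb)
      obtain ⟨S, hS⟩ := (S4652.result 2 M hM _).mp hdef
      have hSab : IsMulCommutative (S : Subgroup N) := by
        refine ⟨⟨fun a b => Subtype.ext (Subtype.ext ?_)⟩⟩
        have h : ∀ s : (S : Subgroup N), ((s : N) : G) ∈ (P : Subgroup G) := fun s => by
          have h' : (s : N) ∈ ((P : Subgroup G) ⊓ N).subgroupOf N := hS.le s.2
          exact (Subgroup.mem_inf.mp (Subgroup.mem_subgroupOf.mp h')).1
        exact comm_of_isMulCommutative hab (h a) (h b)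
      obtain ⟨y, hyN, hy2, hy⟩ := exists_part hab N hsup hsq hx
      have hyS : (⟨(y : G), hyN⟩ : N) ∈ (S : Subgroup N) := by
        rw [hS]; exact Subgroup.mem_subgroupOf.mpr ⟨y.2, hyN⟩
      have hy' : HasNormalPComplement 2 (Subgroup.centralizer ({(⟨(y : G), hyN⟩ : N)} : Set N)) := by
        refine Fusion.hnpc_of_injective (G := Subgroup.centralizer ({(y : G)} : Set G))
          ((N.subtype.comp (Subgroup.centralizer _).subtype).codRestrict _ fun c =>
            Subgroup.mem_centralizer_singleton_iff.mpr
              (congrArg Subtype.val (Subgroup.mem_centralizer_singleton_iff.mp c.2)))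
          (fun a b e => Subtype.ext (Subtype.ext (congrArg Subtype.val e :))) hy
      have hPS : Nat.card (P : Subgroup G) = N.index * Nat.card (S : Subgroup N) := by
        rw [S.card_eq_multiplicity, P.card_eq_multiplicity, hk, ← N.card_mul_index, hk,
          Nat.factorization_mul Nat.card_pos.ne' (pow_ne_zero _ Nat.prime_two.ne_zero), Finsupp.add_apply,
          Nat.factorization_pow_self Nat.prime_two, pow_add, mul_comm]
      have hNlt : Nat.card N < n := by
        rw [← hn]
        exact (Subgroup.card_le_card_group N).lt_of_ne fun e => htop (Subgroup.eq_top_of_card_eq N e)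
      have hidx : 2 ≤ N.index := by
        have h1 := Subgroup.index_ne_zero_of_finite (H := N)
        have h2 : N.index ≠ 1 := fun e => htop (Subgroup.index_eq_one.mp e)
        omega
      obtain ⟨hrec, -⟩ := ih _ hNlt N rfl M hM S hSab ⟨_, hyS⟩
        (Subtype.ext (Subtype.ext (congrArg Subtype.val hy2 :))) hy'
        (Dvd.dvd.trans ⟨N.index, by rw [hPS, mul_comm]⟩ hdvd)
      have hS8 : Nat.card (S : Subgroup N) ≤ 8 := by
        have := Nat.mul_le_mul_right (Nat.card (S : Subgroup N)) hidx
        omega
      rw [hcard, hrec hS8, ← hPS]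
      exact ⟨fun _ => rfl, fun h => Or.inr h⟩

end Cfsg.Agent.Char.FreeInv
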