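import Cfsg.Agent.Lib.Char.FreeInvolution.Regular
import Cfsg.Agent.Lib.Char.SixteenNine.Main
import Mathlib

/-!
# The case of a non-free element: two planes
-/

set_option autoImplicit false
set_option linter.unusedSectionVars false
set_option linter.style.haveILetI false

namespace Cfsg.Agent.Char.FreeInv

open Cfsg Cfsg.Agent.Char

universe u

variable {G : Type u} [Group G] [Fintype G] {P : Sylow 2 G}

/-- A non-trivial automorphism of odd order with a fixed point gives two invariant planes. -/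
theorem planes_of_not_free (hab : IsMulCommutative (P : Subgroup G))
    (hfix : ∀ u : (P : Subgroup G), (∀ α ∈ autGrp P, α u = u) → u = 1)
    (hcomm : ∀ α ∈ autGrp P, ∀ β ∈ autGrp P, α * β = β * α)
    (hcard : Nat.card (P : Subgroup G) = 8 ∨ Nat.card (P : Subgroup G) = 16)
    {u : (P : Subgroup G)} (hu : u ≠ 1) {σ : MulAut (P : Subgroup G)} (hσ : σ ∈ autGrp P) (hσu : σ u = u)
    (hσ1 : σ ≠ 1) :
    Nat.card (P : Subgroup G) = 16 ∧ ∃ A B : Subgroup G, SixteenNine.Planes P A B := by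
  classical
  haveI : Fact (Nat.Prime 2) := ⟨Nat.prime_two⟩
  haveI := hab
  letI : CommGroup (P : Subgroup G) :=
    { (inferInstance : Group (P : Subgroup G)) with mul_comm := fun a b => mul_comm' a b }
  have hodd : ∀ α ∈ autGrp P, Odd (orderOf α) := fun α hα =>
    Odd.of_dvd_nat (odd_card_autGrp hab)
      (Subgroup.orderOf_mk α hα ▸ orderOf_dvd_natCard (⟨α, hα⟩ : autGrp P))
  let δ : (P : Subgroup G) →* (P : Subgroup G) :=
    { toFun := fun v => σ v * v⁻¹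
      map_one' := by simp
      map_mul' := fun a b => by rw [map_mul, mul_inv]; exact mul_mul_mul_comm _ _ _ _ }
  set A₀ := δ.ker
  set B₀ := δ.range
  have hA₀ : ∀ v, v ∈ A₀ ↔ σ v = v := fun v => mul_inv_eq_one
  have hAi : ∀ α ∈ autGrp P, ∀ r ∈ A₀, α r ∈ A₀ := by
    intro α hα r hr
    rw [hA₀] at hr ⊢
    have h := DFunLike.congr_fun (hcomm σ hσ α hα) r
    rw [MulAut.mul_apply, MulAut.mul_apply, hr] at h
    exact h
  have hBi : ∀ α ∈ autGrp P, ∀ r ∈ B₀, α r ∈ B₀ := by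
    rintro α hα _ ⟨v, rfl⟩
    refine ⟨α v, ?_⟩
    show σ (α v) * (α v)⁻¹ = α (σ v * v⁻¹)
    have h := DFunLike.congr_fun (hcomm σ hσ α hα) v
    rw [MulAut.mul_apply, MulAut.mul_apply] at h
    rw [map_mul, map_inv, h]
  have hmeet : ∀ v ∈ A₀, v ∈ B₀ → v = 1 := by
    rintro v hv ⟨w, rfl⟩
    rw [hA₀] at hv
    have hpow : ∀ j : ℕ, (σ ^ j) w = w * (δ w) ^ j := by
      intro j
      induction j with
      | zero => simp
      | succ j ih =>
        rw [pow_succ', MulAut.mul_apply, ih, map_mul, map_pow, hv]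
        show σ w * (δ w) ^ j = w * (δ w) ^ (j + 1)
        rw [show δ w = σ w * w⁻¹ from rfl, pow_succ', mul_left_comm w, mul_assoc (σ w) w⁻¹,
          inv_mul_cancel_left]
    have h := hpow (orderOf σ)
    rw [pow_orderOf_eq_one, MulAut.one_apply, left_eq_mul] at h
    obtain ⟨k, hk⟩ := (IsPGroup.iff_orderOf.mp P.isPGroup') (δ w)
    refine orderOf_eq_one_iff.mp (Nat.eq_one_of_dvd_coprimes ?_ (orderOf_dvd_of_pow_eq_one h) dvd_rfl)
    rw [hk]
    exact Nat.Coprime.pow_right k (Nat.coprime_two_right.mpr (hodd σ hσ))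
  have hAne : A₀ ≠ ⊥ := fun e => hu (Subgroup.mem_bot.mp (e ▸ (hA₀ u).mpr hσu))
  have hBne : B₀ ≠ ⊥ := fun e => hσ1 (MulEquiv.ext fun v => mul_inv_eq_one.mp
    (Subgroup.mem_bot.mp (e ▸ ⟨v, rfl⟩ : δ v ∈ (⊥ : Subgroup (P : Subgroup G)))))
  have h4 : ∀ R : Subgroup (P : Subgroup G), (∀ α ∈ autGrp P, ∀ r ∈ R, α r ∈ R) → R ≠ ⊥ →
      4 ≤ Nat.card R := by
    intro R hR hne'
    obtain ⟨k, hk⟩ := card_dvd_cases R
    by_contra hlt
    refine hne' (eq_bot_of_card_le_two hfix R hR ?_)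
    have hk2 : k < 2 := (Nat.pow_lt_pow_iff_right one_lt_two).mp (show 2 ^ k < 2 ^ 2 by omega)
    interval_cases k <;> omega
  have h1 := h4 _ hAi hAne
  have h2 := h4 _ hBi hBne
  have h3 : Nat.card A₀ * Nat.card B₀ = Nat.card (P : Subgroup G) := by
    rw [← Subgroup.index_ker, Subgroup.card_mul_index]
  have h5 : 4 * 4 ≤ Nat.card (P : Subgroup G) := h3 ▸ Nat.mul_le_mul h1 h2
  have h16 : Nat.card (P : Subgroup G) = 16 := by omega
  have hcA : Nat.card A₀ = 4 := by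
    have : Nat.card A₀ * 4 ≤ 16 := h16 ▸ h3 ▸ Nat.mul_le_mul_left _ h2
    omega
  have hcB : Nat.card B₀ = 4 := by
    have : 4 * Nat.card B₀ ≤ 16 := h16 ▸ h3 ▸ Nat.mul_le_mul_right _ h1
    omega
  -- invariant subgroups of order four are elementary
  have hel : ∀ R : Subgroup (P : Subgroup G), (∀ α ∈ autGrp P, ∀ r ∈ R, α r ∈ R) → Nat.card R = 4 →
      ∀ r ∈ R, r * r = 1 := by
    intro R hR hc r hr
    by_contra hne
    let sq : (P : Subgroup G) →* (P : Subgroup G) :=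
      { toFun := fun v => v * v
        map_one' := one_mul 1
        map_mul' := fun a b => mul_mul_mul_comm a b a b }
    have hR' : ∀ α ∈ autGrp P, ∀ s ∈ R.map sq, α s ∈ R.map sq := by
      rintro α hα _ ⟨s, hs, rfl⟩
      exact ⟨α s, hR α hα s hs, (map_mul α s s).symm⟩
    have hlt : Nat.card (R.map sq) ≤ 2 := by
      have h6 : Nat.card (sq.comp R.subtype).ker * Nat.card (sq.comp R.subtype).range = 4 := by
        rw [← Subgroup.index_ker, Subgroup.card_mul_index, hc]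
      have h7 : (sq.comp R.subtype).range = R.map sq := by
        rw [MonoidHom.range_comp, Subgroup.range_subtype]
      obtain ⟨z, hz⟩ := exists_prime_orderOf_dvd_card' (G := R) 2 (by rw [hc]; norm_num)
      have hz1 : z ∈ (sq.comp R.subtype).ker := by
        show (z : (P : Subgroup G)) * z = 1
        rw [← Subgroup.coe_mul, ← pow_two, orderOf_dvd_iff_pow_eq_one.mp (dvd_of_eq hz),
          OneMemClass.coe_one]
      have h8 := Nat.le_of_dvd Nat.card_pos (orderOf_dvd_natCard (⟨z, hz1⟩ : (sq.comp R.subtype).ker))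
      rw [Subgroup.orderOf_mk, hz] at h8
      rw [h7] at h6
      have h9 : 2 * Nat.card (R.map sq) ≤ 4 := h6 ▸ Nat.mul_le_mul_right _ h8
      omega
    have hb := eq_bot_of_card_le_two hfix _ hR' hlt
    exact hne (Subgroup.mem_bot.mp (hb ▸ ⟨r, hr, rfl⟩ : sq r ∈ (⊥ : Subgroup (P : Subgroup G))))
  have hAel := hel _ hAi hcA
  have hBel := hel _ hBi hcB
  -- a four-group is spanned by any two elements
  have hspan : ∀ R : Subgroup (P : Subgroup G), Nat.card R = 4 → ∀ r ∈ R, ∀ s ∈ R, r ≠ 1 → s ≠ 1 →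
      r ≠ s → r * r = 1 → ∀ t ∈ R, t = 1 ∨ t = r ∨ t = s ∨ t = r * s := by
    intro R hc r hr s hs hr1 hs1 hrs hrr t ht
    by_contra hn
    push Not at hn
    obtain ⟨n1, n2, n3, n4⟩ := hn
    haveI := Fintype.ofFinite R
    have h6 : ({1, ⟨r, hr⟩, ⟨s, hs⟩, ⟨r * s, R.mul_mem hr hs⟩, ⟨t, ht⟩} : Finset R).card = 5 := by
      have e1 : r * s ≠ 1 := fun e => hrs (by rw [← mul_left_cancel_iff (a := r), hrr, e])
      have e2 : r ≠ r * s := fun e => hs1 (left_eq_mul.mp e)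
      have e3 : s ≠ r * s := fun e => hr1 (right_eq_mul.mp e)
      repeat rw [Finset.card_insert_of_notMem]
      · simp
      all_goals simp only [Finset.mem_insert, Finset.mem_singleton, not_or, Subtype.ext_iff,
        OneMemClass.coe_one]
      · exact fun e => n4 (Subtype.ext e).symm
      · exact ⟨fun e => e3 (Subtype.ext e), fun e => n3 (Subtype.ext e).symm⟩
      · exact ⟨fun e => hrs (Subtype.ext e), fun e => e2 (Subtype.ext e), fun e => n2 (Subtype.ext e).symm⟩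
      · exact ⟨fun e => hr1 (Subtype.ext e).symm, fun e => hs1 (Subtype.ext e).symm,
          fun e => e1 (Subtype.ext e).symm, fun e => n1 (Subtype.ext e).symm⟩
    have h7 := Finset.card_le_univ ({1, ⟨r, hr⟩, ⟨s, hs⟩, ⟨r * s, R.mul_mem hr hs⟩, ⟨t, ht⟩} : Finset R)
    rw [h6, ← Nat.card_eq_fintype_card, hc] at h7
    omega
  have hfix4 : ∀ R : Subgroup (P : Subgroup G), (∀ α ∈ autGrp P, ∀ r ∈ R, α r ∈ R) → Nat.card R = 4 →
      ∀ α ∈ autGrp P, ∀ a ∈ R, a ≠ 1 → α a = a → ∀ w ∈ R, α w = w := by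
    intro R hR hc α hα a ha ha1 hfa w hw
    have haa := hel R hR hc a ha
    by_cases hw1 : w = 1
    · rw [hw1, map_one]
    by_cases hwa : w = a
    · rw [hwa, hfa]
    have hαw1 : α w ≠ 1 := fun e => hw1 ((MulEquiv.map_eq_one_iff _).mp e)
    have hαwa : α w ≠ a := fun e => hwa (α.injective (e.trans hfa.symm))
    rcases hspan R hc a ha w hw ha1 hw1 (Ne.symm hwa) haa (α w) (hR α hα w hw) with e | e | e | e
    · exact absurd e hαw1
    · exact absurd e hαwa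
    · exact e
    · exact fix_of_four (hodd α hα) haa hfa e
  -- the lift to the group
  have himg : ∀ R : Subgroup (P : Subgroup G), ∀ v : (P : Subgroup G),
      (v : G) ∈ R.map (P : Subgroup G).subtype ↔ v ∈ R := fun R v =>
    Subgroup.mem_map_iff_mem (Subgroup.subtype_injective _)
  refine ⟨h16, A₀.map (P : Subgroup G).subtype, B₀.map (P : Subgroup G).subtype, ?_⟩
  have hnorm : ∀ n ∈ Subgroup.normalizer ((P : Subgroup G) : Set G), ∀ v : (P : Subgroup G),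
      ∃ α ∈ autGrp P, ((α v : (P : Subgroup G)) : G) = n * v * n⁻¹ := fun n hn v =>
    ⟨_, ⟨⟨n, hn⟩, rfl⟩, rfl⟩
  have hfus : ∀ R : Subgroup (P : Subgroup G), (∀ α ∈ autGrp P, ∀ r ∈ R, α r ∈ R) →
      ∀ x ∈ R.map (P : Subgroup G).subtype, ∀ y ∈ (P : Subgroup G), IsConj x y →
        y ∈ R.map (P : Subgroup G).subtype := by
    rintro R hR _ ⟨x, hx, rfl⟩ y hy hc
    obtain ⟨α, hα, e⟩ := exists_aut_of_isConj hab (u := x) (v := ⟨y, hy⟩) hc
    exact (himg R ⟨y, hy⟩).mpr (e ▸ hR α hα x hx)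
  have hcent : ∀ R : Subgroup (P : Subgroup G), (∀ α ∈ autGrp P, ∀ r ∈ R, α r ∈ R) → Nat.card R = 4 →
      ∀ n ∈ Subgroup.normalizer ((P : Subgroup G) : Set G), ∀ a ∈ R.map (P : Subgroup G).subtype,
        a ≠ 1 → n * a * n⁻¹ = a → ∀ a' ∈ R.map (P : Subgroup G).subtype, n * a' * n⁻¹ = a' := by
    rintro R hR hc n hn _ ⟨a, ha, rfl⟩ ha1 hna _ ⟨a', ha', rfl⟩
    exact congrArg Subtype.val (hfix4 R hR hc _ ⟨⟨n, hn⟩, rfl⟩ a ha
      (fun e => ha1 (by rw [e, map_one])) (Subtype.ext hna) a' ha')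
  have hmove : ∀ (R S : Subgroup (P : Subgroup G)), (∀ α ∈ autGrp P, ∀ r ∈ S, α r ∈ S) → Nat.card S = 4 →
      ∀ ρ ∈ autGrp P, (∀ r ∈ R, ρ r = r) → (∃ s ∈ S, ρ s ≠ s) →
      ∃ c ∈ Subgroup.normalizer ((P : Subgroup G) : Set G),
        (∀ a ∈ R.map (P : Subgroup G).subtype, c * a * c⁻¹ = a) ∧
          ∀ b ∈ S.map (P : Subgroup G).subtype, b ≠ 1 → c * b * c⁻¹ ≠ b := by
    rintro R S hS hc ρ hρ hR ⟨s, hs, hsne⟩
    obtain ⟨⟨c, hc'⟩, rfl⟩ := id hρ
    refine ⟨c, hc', ?_, ?_⟩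
    · rintro _ ⟨a, ha, rfl⟩
      exact congrArg Subtype.val (hR a ha)
    · rintro _ ⟨b, hb, rfl⟩ hb1 hcb
      exact hsne (hfix4 S hS hc _ hρ b hb (fun e => hb1 (by rw [e, map_one])) (Subtype.ext hcb) s hs)
  obtain ⟨a₀, ha₀, ha₀1⟩ : ∃ a ∈ A₀, a ≠ 1 := ⟨u, (hA₀ u).mpr hσu, hu⟩
  obtain ⟨b₀, hb₀, hb₀1⟩ : ∃ b ∈ B₀, b ≠ 1 := by
    obtain ⟨b, hb⟩ := Subgroup.ne_bot_iff_exists_ne_one.mp hBne
    exact ⟨b.1, b.2, fun e => hb (Subtype.ext e)⟩
  have hσb : σ b₀ ≠ b₀ := fun e => hb₀1 (hmeet b₀ ((hA₀ b₀).mpr e) hb₀)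
  -- an element fixing the plane `B` and moving `A`
  have hτ : ∃ τ ∈ autGrp P, (∀ b ∈ B₀, τ b = b) ∧ ∃ a ∈ A₀, τ a ≠ a := by
    obtain ⟨τ, hτ, hτa⟩ : ∃ τ ∈ autGrp P, τ a₀ ≠ a₀ := by
      by_contra h
      push Not at h
      exact ha₀1 (hfix a₀ h)
    have hbb := hBel b₀ hb₀
    have hσb1 : σ b₀ ≠ 1 := fun e => hb₀1 ((MulEquiv.map_eq_one_iff _).mp e)
    have hσ2 : σ (σ b₀) = b₀ * σ b₀ := by
      rcases hspan B₀ hcB b₀ hb₀ (σ b₀) (hBi σ hσ b₀ hb₀) hb₀1 hσb1 (Ne.symm hσb) hbb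
        (σ (σ b₀)) (hBi σ hσ _ (hBi σ hσ b₀ hb₀)) with e | e | e | e
      · exact absurd ((MulEquiv.map_eq_one_iff _).mp e) hσb1
      · obtain ⟨k, hk⟩ := hodd σ hσ
        have h2 : ∀ j : ℕ, ((σ ^ 2) ^ j) b₀ = b₀ := by
          intro j
          induction j with
          | zero => rfl
          | succ j ih => rw [pow_succ, MulAut.mul_apply, show (σ ^ 2) b₀ = b₀ by rw [pow_two]; exact e, ih]
        have h := DFunLike.congr_fun (pow_orderOf_eq_one σ) b₀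
        rw [hk, pow_succ', MulAut.mul_apply, pow_mul, h2, MulAut.one_apply] at h
        exact absurd h hσb
      · exact absurd (σ.injective e) hσb
      · exact e
    obtain ⟨j, hj⟩ : ∃ j : ℕ, τ b₀ = (σ ^ j) b₀ := by
      rcases hspan B₀ hcB b₀ hb₀ (σ b₀) (hBi σ hσ b₀ hb₀) hb₀1 hσb1 (Ne.symm hσb) hbb
        (τ b₀) (hBi τ hτ b₀ hb₀) with e | e | e | e
      · exact absurd ((MulEquiv.map_eq_one_iff _).mp e) hb₀1
      · exact ⟨0, by rw [e]; rfl⟩
      · exact ⟨1, by rw [e, pow_one]⟩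
      · exact ⟨2, by rw [e, pow_two, MulAut.mul_apply, hσ2]⟩
    refine ⟨(σ ^ j)⁻¹ * τ, (autGrp P).mul_mem ((autGrp P).inv_mem ((autGrp P).pow_mem hσ j)) hτ,
      fun b hb => ?_, a₀, ha₀, fun e => hτa ?_⟩
    · refine hfix4 B₀ hBi hcB _ ((autGrp P).mul_mem ((autGrp P).inv_mem ((autGrp P).pow_mem hσ j)) hτ)
        b₀ hb₀ hb₀1 ?_ b hb
      rw [MulAut.mul_apply, hj, MulAut.inv_apply_self]
    · have hσa : ∀ j : ℕ, (σ ^ j) (τ a₀) = τ a₀ := by
        intro j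
        induction j with
        | zero => rfl
        | succ j ih => rw [pow_succ, MulAut.mul_apply, (hA₀ _).mp (hAi τ hτ a₀ ha₀), ih]
      rw [MulAut.mul_apply] at e
      conv_lhs at e => rw [← hσa j, MulAut.inv_apply_self]
      exact e
  obtain ⟨τ, hτ, hτB, hτA⟩ := hτ
  have hsqP : ∀ v : (P : Subgroup G), v * v = 1 := by
    intro v
    have hinj : Function.Injective fun p : A₀ × B₀ => (p.1 : (P : Subgroup G)) * p.2 := by
      rintro ⟨a, b⟩ ⟨a', b'⟩ e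
      have e1 : ((a' : (P : Subgroup G)))⁻¹ * a = (b' : (P : Subgroup G)) * (b : (P : Subgroup G))⁻¹ := by
        rw [inv_mul_eq_iff_eq_mul, ← mul_assoc]
        exact (eq_mul_inv_iff_mul_eq.mpr e)
      have h := hmeet _ (mul_mem (inv_mem a'.2) a.2) (e1 ▸ mul_mem b'.2 (inv_mem b.2))
      rw [h] at e1
      exact Prod.ext (Subtype.ext (inv_mul_eq_one.mp h).symm) (Subtype.ext (mul_inv_eq_one.mp e1.symm).symm)
    obtain ⟨⟨a, b⟩, e⟩ := ((Nat.bijective_iff_injective_and_card _).mpr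
      ⟨hinj, by rw [Nat.card_prod, h3]⟩).2 v
    rw [← e, mul_mul_mul_comm, hAel _ a.2, hBel _ b.2, one_mul]
  refine ⟨h16, fun x hx => congrArg Subtype.val (hsqP ⟨x, hx⟩), Subgroup.map_subtype_le _,
    Subgroup.map_subtype_le _, by rw [Subgroup.card_map_of_injective (Subgroup.subtype_injective _), hcA],
    by rw [Subgroup.card_map_of_injective (Subgroup.subtype_injective _), hcB], ?_,
    hfus A₀ hAi, hfus B₀ hBi, hmove A₀ B₀ hBi hcB σ hσ (fun r hr => (hA₀ r).mp hr) ⟨b₀, hb₀, hσb⟩,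
    hmove B₀ A₀ hAi hcA τ hτ hτB hτA, hcent A₀ hAi hcA, hcent B₀ hBi hcB⟩
  rw [← Subgroup.map_inf _ _ _ (Subgroup.subtype_injective _),
    show A₀ ⊓ B₀ = ⊥ from (Subgroup.eq_bot_iff_forall _).mpr fun v hv => hmeet v hv.1 hv.2,
    Subgroup.map_bot]

end Cfsg.Agent.Char.FreeInv
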