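import Cfsg.Agent.Lib.Char.FreeInvolution.Count
import Cfsg.Agent.Lib.Char.FreeInvolution.Local
import Cfsg.Agent.Lib.Char.FreeInvolution.Embedded
import Cfsg.Agent.Lib.Char.HomocyclicSylow
import Mathlib

/-!
# The principal block when every non-identity element of the Sylow 2-subgroup is free
-/

set_option autoImplicit false
set_option linter.unusedSectionVars false
set_option linter.style.haveILetI false

namespace Cfsg.Agent.Char.FreeInv

open Cfsg Cfsg.Agent.Char

universe u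

variable {G : Type u} [Group G] [Fintype G] {P : Sylow 2 G}

/-- An invariant subgroup of order at most two is trivial. -/
theorem eq_bot_of_card_le_two (hfix : ∀ u : (P : Subgroup G), (∀ α ∈ autGrp P, α u = u) → u = 1)
    (R : Subgroup (P : Subgroup G)) (hinv : ∀ α ∈ autGrp P, ∀ r ∈ R, α r ∈ R)
    (hR : Nat.card R ≤ 2) : R = ⊥ := by
  refine (Subgroup.eq_bot_iff_forall _).mpr fun r hr => ?_
  by_contra h1
  refine h1 (hfix r fun α hα => ?_)
  by_contra h2
  have h3 : α r ≠ 1 := fun e => h1 ((MulEquiv.map_eq_one_iff _).mp e)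
  haveI := Fintype.ofFinite R
  classical
  have h4 : ({1, ⟨r, hr⟩, ⟨α r, hinv α hα r hr⟩} : Finset R).card = 3 := by
    rw [Finset.card_insert_of_notMem, Finset.card_pair]
    · exact fun e => h2 (congrArg Subtype.val e).symm
    · simp only [Finset.mem_insert, Finset.mem_singleton, not_or]
      exact ⟨fun e => h1 (congrArg Subtype.val e).symm, fun e => h3 (congrArg Subtype.val e).symm⟩
  have h5 := Finset.card_le_univ ({1, ⟨r, hr⟩, ⟨α r, hinv α hα r hr⟩} : Finset R)
  rw [h4, ← Nat.card_eq_fintype_card] at h5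
  omega

/-- Subgroups of a 2-group have cardinality a power of two. -/
theorem card_dvd_cases (R : Subgroup (P : Subgroup G)) : ∃ k, Nat.card R = 2 ^ k :=
  haveI : Fact (Nat.Prime 2) := ⟨Nat.prime_two⟩
  IsPGroup.iff_card.mp (P.isPGroup'.to_subgroup R)

/-- A non-elementary Sylow subgroup without fixed points is homocyclic of exponent four. -/
theorem exists_homocyclic (hab : IsMulCommutative (P : Subgroup G))
    (hfix : ∀ u : (P : Subgroup G), (∀ α ∈ autGrp P, α u = u) → u = 1)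
    (hcard : Nat.card (P : Subgroup G) = 8 ∨ Nat.card (P : Subgroup G) = 16)
    (hne : ∃ u ∈ (P : Subgroup G), u * u ≠ 1) :
    Nat.card (P : Subgroup G) = 16 ∧
      ∃ ι : Multiplicative (HV 4) →* G, Function.Injective ι ∧ ι.range = (P : Subgroup G) := by
  classical
  haveI : Fact (Nat.Prime 2) := ⟨Nat.prime_two⟩
  haveI := hab
  letI : CommGroup (P : Subgroup G) :=
    { (inferInstance : Group (P : Subgroup G)) with mul_comm := fun a b => mul_comm' a b }
  let sq : (P : Subgroup G) →* (P : Subgroup G) :=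
    { toFun := fun u => u * u
      map_one' := one_mul 1
      map_mul' := fun a b => mul_mul_mul_comm a b a b }
  have hS2 : ∀ R : Subgroup (P : Subgroup G), (∀ α ∈ autGrp P, ∀ r ∈ R, α r ∈ R) → R ≠ ⊥ →
      4 ≤ Nat.card R := by
    intro R hR hne'
    obtain ⟨k, hk⟩ := card_dvd_cases R
    by_contra hlt
    refine hne' (eq_bot_of_card_le_two hfix R hR ?_)
    have hk2 : k < 2 := (Nat.pow_lt_pow_iff_right one_lt_two).mp (show 2 ^ k < 2 ^ 2 by omega)
    interval_cases k <;> omega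
  have hSi : ∀ α ∈ autGrp P, ∀ r ∈ sq.range, α r ∈ sq.range := by
    rintro α - _ ⟨u, rfl⟩
    exact ⟨α u, (map_mul α u u).symm⟩
  have hΩi : ∀ α ∈ autGrp P, ∀ r ∈ sq.ker, α r ∈ sq.ker := by
    intro α _ r hr
    have h : r * r = 1 := hr
    show α r * α r = 1
    rw [← map_mul, h, map_one]
  have hSne : sq.range ≠ ⊥ := by
    obtain ⟨u, hu, h⟩ := hne
    intro e
    have h0 : sq ⟨u, hu⟩ ∈ sq.range := ⟨⟨u, hu⟩, rfl⟩
    rw [e, Subgroup.mem_bot] at h0
    exact h (congrArg Subtype.val h0)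
  have hΩne : sq.ker ≠ ⊥ := by
    obtain ⟨z, hz⟩ := exists_prime_orderOf_dvd_card' (G := (P : Subgroup G)) 2 (by
      rcases hcard with h | h <;> rw [h] <;> norm_num)
    intro e
    have hz1 : z ∈ sq.ker := by
      show z * z = 1
      rw [← pow_two]
      exact orderOf_dvd_iff_pow_eq_one.mp (dvd_of_eq hz)
    rw [e, Subgroup.mem_bot] at hz1
    rw [hz1, orderOf_one] at hz
    omega
  have h1 := hS2 _ hSi hSne
  have h2 := hS2 _ hΩi hΩne
  have h3 : Nat.card sq.ker * Nat.card sq.range = Nat.card (P : Subgroup G) := by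
    rw [← Subgroup.index_ker, Subgroup.card_mul_index]
  have h4 : 4 * 4 ≤ Nat.card (P : Subgroup G) := h3 ▸ Nat.mul_le_mul h2 h1
  have h16 : Nat.card (P : Subgroup G) = 16 := by omega
  refine ⟨h16, ?_⟩
  have hcS : Nat.card sq.range = 4 := by
    have h5 : 4 * Nat.card sq.range ≤ 16 := h16 ▸ h3 ▸ Nat.mul_le_mul_right _ h2
    omega
  -- the image of squaring is elementary
  have hSel : ∀ s ∈ sq.range, s * s = 1 := by
    intro s hs
    set R := sq.range.map sq with hR
    have hRi : ∀ α ∈ autGrp P, ∀ r ∈ R, α r ∈ R := by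
      rintro α hα _ ⟨s, hs, rfl⟩
      exact ⟨α s, hSi α hα s hs, (map_mul α s s).symm⟩
    have hlt : Nat.card R ≤ 2 := by
      have e := (sq.range).card_mul_index
      have h6 : Nat.card (sq.comp sq.range.subtype).ker * Nat.card (sq.comp sq.range.subtype).range = 4 := by
        rw [← Subgroup.index_ker, Subgroup.card_mul_index, hcS]
      have h7 : (sq.comp sq.range.subtype).range = R := by
        rw [MonoidHom.range_comp, Subgroup.range_subtype, hR]
      have h8 : 2 ≤ Nat.card (sq.comp sq.range.subtype).ker := by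
        obtain ⟨z, hz⟩ := exists_prime_orderOf_dvd_card' (G := sq.range) 2 (by rw [hcS]; norm_num)
        have hz1 : z ∈ (sq.comp sq.range.subtype).ker := by
          show (z : (P : Subgroup G)) * z = 1
          rw [← Subgroup.coe_mul, ← pow_two, orderOf_dvd_iff_pow_eq_one.mp (dvd_of_eq hz),
            OneMemClass.coe_one]
        have hz2 : orderOf (⟨z, hz1⟩ : (sq.comp sq.range.subtype).ker) = 2 := by rwa [Subgroup.orderOf_mk]
        have h := Nat.le_of_dvd Nat.card_pos
          (orderOf_dvd_natCard (⟨z, hz1⟩ : (sq.comp sq.range.subtype).ker))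
        omega
      rw [h7] at h6
      have h9 : 2 * Nat.card R ≤ 4 := h6 ▸ Nat.mul_le_mul_right _ h8
      omega
    have h := eq_bot_of_card_le_two hfix R hRi hlt
    exact Subgroup.mem_bot.mp (h ▸ ⟨s, hs, rfl⟩ : sq s ∈ (⊥ : Subgroup (P : Subgroup G)))
  obtain ⟨s₁, hs₁, hs₁1⟩ := (Subgroup.ne_bot_iff_exists_ne_one.mp hSne).elim fun s h =>
    (⟨s.1, s.2, fun e => h (Subtype.ext e)⟩ : ∃ s, s ∈ sq.range ∧ s ≠ 1)
  obtain ⟨s₂, hs₂, hs₂1, hs₂2⟩ : ∃ s, s ∈ sq.range ∧ s ≠ 1 ∧ s ≠ s₁ := by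
    by_contra h
    push Not at h
    haveI := Fintype.ofFinite sq.range
    have h5 : (Finset.univ : Finset sq.range) ⊆ {1, ⟨s₁, hs₁⟩} := fun s _ => by
      simp only [Finset.mem_insert, Finset.mem_singleton]
      by_cases e : (s : (P : Subgroup G)) = 1
      · exact Or.inl (Subtype.ext e)
      · exact Or.inr (Subtype.ext (h s s.2 e))
    have h6 := (Finset.card_le_card h5).trans Finset.card_le_two
    rw [Finset.card_univ, ← Nat.card_eq_fintype_card, hcS] at h6
    omega
  obtain ⟨a, ha⟩ := hs₁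
  obtain ⟨b, hb⟩ := hs₂
  have ha2 : a * a = s₁ := ha
  have hb2 : b * b = s₂ := hb
  have h11 := hSel s₁ ⟨a, ha⟩
  have h22 := hSel s₂ ⟨b, hb⟩
  have h12 : s₁ * s₂ ≠ 1 := fun e => hs₂2 (by
    rw [← mul_left_cancel_iff (a := s₁), e, h11])
  have ha4 : a ^ 4 = 1 := by rw [show a ^ 4 = (a * a) * (a * a) by simp only [pow_succ, pow_zero, one_mul, mul_assoc], ha2, h11]
  have hb4 : b ^ 4 = 1 := by rw [show b ^ 4 = (b * b) * (b * b) by simp only [pow_succ, pow_zero, one_mul, mul_assoc], hb2, h22]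
  let f : ∀ c : (P : Subgroup G), c ^ 4 = 1 → (ZMod 4 →+ Additive (P : Subgroup G)) := fun c hc =>
    ZMod.lift 4 ⟨zmultiplesHom (Additive (P : Subgroup G)) (Additive.ofMul c), by
      show ((4 : ℕ) : ℤ) • Additive.ofMul c = 0
      rw [natCast_zsmul, ← ofMul_pow, hc, ofMul_one]⟩
  have hf : ∀ c hc (i : ZMod 4), Additive.toMul (f c hc i) = c ^ i.val := by
    intro c hc i
    conv_lhs => rw [← ZMod.natCast_zmod_val i, ← Int.cast_natCast]
    simp only [f, ZMod.lift_coe, zmultiplesHom_apply, natCast_zsmul, toMul_nsmul, toMul_ofMul]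
  let F := (f a ha4).coprod (f b hb4)
  let ι : Multiplicative (HV 4) →* G :=
    { toFun := fun m => ((Additive.toMul (F (Multiplicative.toAdd m)) : (P : Subgroup G)) : G)
      map_one' := by simp
      map_mul' := fun x y => by simp }
  have hι : ∀ i j : ZMod 4, ι (Multiplicative.ofAdd (i, j)) = ((a ^ i.val * b ^ j.val : (P : Subgroup G)) : G) := by
    intro i j
    show ((Additive.toMul (f a ha4 i + f b hb4 j) : (P : Subgroup G)) : G) = _
    rw [toMul_add, hf a ha4, hf b hb4]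
  have hinj : Function.Injective ι := by
    rw [injective_iff_map_eq_one]
    intro m hm
    obtain ⟨⟨i, j⟩, rfl⟩ := Multiplicative.ofAdd.surjective m
    rw [hι] at hm
    have h : a ^ i.val * b ^ j.val = 1 := Subtype.ext hm
    have hsqr : s₁ ^ i.val * s₂ ^ j.val = 1 := by
      rw [← ha2, ← hb2, mul_pow, mul_pow, mul_mul_mul_comm, h, one_mul]
    have hi := ZMod.val_lt i
    have hj := ZMod.val_lt j
    have hfin : i.val = 0 ∧ j.val = 0 := by
      generalize i.val = I at h hsqr hi ⊢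
      generalize j.val = J at h hsqr hj ⊢
      interval_cases I <;> interval_cases J <;>
        simp only [pow_succ, pow_zero, one_mul, mul_one, h11, h22, ha2, hb2] at h hsqr ⊢ <;>
        first
          | exact ⟨rfl, rfl⟩
          | exact absurd h h12
          | exact absurd h hs₁1
          | exact absurd h hs₂1
          | exact absurd hsqr h12
          | exact absurd hsqr hs₁1
          | exact absurd hsqr hs₂1
          | exact ⟨trivial, trivial⟩
    rw [(ZMod.val_eq_zero i).mp hfin.1, (ZMod.val_eq_zero j).mp hfin.2]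
    rfl
  refine ⟨ι, hinj, ?_⟩
  refine Subgroup.eq_of_le_of_card_ge ?_ ?_
  · rintro _ ⟨m, rfl⟩
    exact SetLike.coe_mem _
  · rw [h16, show Nat.card ι.range = Nat.card (Multiplicative (HV 4)) from
      (Nat.card_congr (MonoidHom.ofInjective hinj).toEquiv).symm]
    simp [Nat.card_eq_fintype_card]

/-- The map onto the automizer on the subgroup generated by a signalizer and the normalizer. -/
theorem exists_emb (hab : IsMulCommutative (P : Subgroup G)) (hel : ∀ u ∈ (P : Subgroup G), u * u = 1)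
    (h8 : 8 ≤ Nat.card (P : Subgroup G))
    (hcomm : ∀ α ∈ autGrp P, ∀ β ∈ autGrp P, α * β = β * α)
    (hfree : ∀ u : (P : Subgroup G), u ≠ 1 → IsFree P u) {W : Subgroup G}
    (hWodd : ¬ 2 ∣ Nat.card W)
    (hNW : Subgroup.normalizer ((P : Subgroup G) : Set G) ≤ Subgroup.normalizer (W : Set G))
    (hcent : ∀ u ∈ (P : Subgroup G), u ≠ 1 → Subgroup.centralizer ({u} : Set G) ≤ W ⊔ (P : Subgroup G))
    (htop : W ⊔ Subgroup.normalizer ((P : Subgroup G) : Set G) ≠ ⊤) :
    ∃ (H : Subgroup G) (π : H →* autGrp P), Function.Surjective π ∧ Emb P H π := by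
  classical
  haveI : Fact (Nat.Prime 2) := ⟨Nat.prime_two⟩
  set N := Subgroup.normalizer ((P : Subgroup G) : Set G) with hN
  set H := W ⊔ N with hH
  have hPN : (P : Subgroup G) ≤ N := Subgroup.le_normalizer
  have hcentH : ∀ u ∈ (P : Subgroup G), u ≠ 1 → Subgroup.centralizer ({u} : Set G) ≤ H :=
    fun u hu hu1 => (hcent u hu hu1).trans (sup_le_sup_left hPN W)
  have hsplit : ∀ g ∈ H, ∃ w ∈ W, ∃ n ∈ N, g = w * n := by
    intro g hg
    have hg' : g ∈ ((W ⊔ N : Subgroup G) : Set G) := hg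
    rw [Subgroup.coe_mul_of_right_le_normalizer_left W _ hNW] at hg'
    obtain ⟨w, hw, n, hn, e⟩ := Set.mem_mul.mp hg'
    exact ⟨w, hw, n, hn, e.symm⟩
  have hWP : ∀ u ∈ (P : Subgroup G), u ∈ W → u = 1 := by
    intro u hu hu'
    by_contra h1
    refine hWodd ?_
    have h := orderOf_dvd_natCard (⟨u, hu'⟩ : W)
    rwa [Subgroup.orderOf_mk, orderOf_eq_prime (by rw [pow_two, hel u hu]) h1] at h
  choose w hw n hn he using fun h : H => hsplit h h.2
  have hWc : ∀ m ∈ W, m ∈ N → ∀ u ∈ (P : Subgroup G), m * u * m⁻¹ = u := by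
    intro m hm hmN u hu
    have h1 : m * u * m⁻¹ * u⁻¹ ∈ (P : Subgroup G) :=
      mul_mem ((Subgroup.mem_normalizer_iff.mp hmN u).mp hu) (inv_mem hu)
    have h2 : m * u * m⁻¹ * u⁻¹ ∈ W := by
      rw [show m * u * m⁻¹ * u⁻¹ = m * (u * m⁻¹ * u⁻¹) by group]
      exact mul_mem hm ((Subgroup.mem_normalizer_iff.mp (hNW (hPN hu)) _).mp (inv_mem hm))
    exact mul_inv_eq_one.mp (hWP _ h1 h2)
  -- the action on the Sylow subgroup
  have hindep : ∀ (h : H) (w' n' : G), w' ∈ W → ∀ hn' : n' ∈ N, (h : G) = w' * n' →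
      (P : Subgroup G).normalizerMonoidHom ⟨n h, hn h⟩ = (P : Subgroup G).normalizerMonoidHom ⟨n', hn'⟩ := by
    intro h w' n' hw' hn' e
    refine MulEquiv.ext fun u => Subtype.ext ?_
    show n h * u * (n h)⁻¹ = n' * u * n'⁻¹
    have hm : n' * (n h)⁻¹ = w'⁻¹ * w h := by
      rw [eq_inv_mul_iff_mul_eq, ← mul_assoc, ← e, he h, mul_inv_cancel_right]
    have h1 := hWc _ (hm ▸ mul_mem (inv_mem hw') (hw h)) (mul_mem hn' (inv_mem (hn h)))
      (n h * u * (n h)⁻¹) ((Subgroup.mem_normalizer_iff.mp (hn h) u).mp u.2)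
    rw [← h1]
    group
  let φ : H → autGrp P := fun h => ⟨(P : Subgroup G).normalizerMonoidHom ⟨n h, hn h⟩, ⟨_, rfl⟩⟩
  let π : H →* autGrp P := MonoidHom.mk' φ fun g h => Subtype.ext (by
    show _ = (P : Subgroup G).normalizerMonoidHom ⟨n g, hn g⟩ * (P : Subgroup G).normalizerMonoidHom ⟨n h, hn h⟩
    rw [← map_mul]
    refine hindep (g * h) (w g * (n g * w h * (n g)⁻¹)) (n g * n h)
      (mul_mem (hw g) ((Subgroup.mem_normalizer_iff.mp (hNW (hn g)) _).mp (hw h)))
      (mul_mem (hn g) (hn h)) ?_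
    rw [Subgroup.coe_mul, he g, he h]
    group)
  have hπ : Function.Surjective π := by
    rintro ⟨_, ⟨⟨m, hm⟩, rfl⟩⟩
    exact ⟨⟨m, Subgroup.mem_sup_right hm⟩,
      Subtype.ext (hindep _ 1 m W.one_mem hm (one_mul m).symm)⟩
  have hPH : (P : Subgroup G) ≤ H := hPN.trans le_sup_right
  have hinv : ∀ t : G, t ∈ H → orderOf t = 2 →
      ∃ g ∈ H, g * t * g⁻¹ ∈ (P : Subgroup G) ∧ g * t * g⁻¹ ≠ 1 := by
    intro t htH ht
    obtain ⟨S, hS⟩ := (IsPGroup.of_card (p := 2) (n := 1) (G := Subgroup.zpowers (⟨t, htH⟩ : H))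
      (by rw [Nat.card_zpowers, Subgroup.orderOf_mk, ht, pow_one])).exists_le_sylow
    obtain ⟨g, hg⟩ := MulAction.exists_smul_eq H S (P.subtype hPH)
    have h1 : g * ⟨t, htH⟩ * g⁻¹ ∈ (P.subtype hPH : Subgroup H) := by
      rw [← hg]
      exact ⟨_, hS (Subgroup.mem_zpowers _), rfl⟩
    exact ⟨g, g.2, h1, fun e => by
      rw [conj_eq_one_iff] at e
      rw [e, orderOf_one] at ht
      omega⟩
  have hse : IsStronglyEmbedded H := by
    refine ⟨htop, even_iff_two_dvd.mpr ((?_ : 2 ∣ Nat.card (P : Subgroup G)).trans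
      (Subgroup.card_dvd_of_le hPH)), fun g hg => ?_⟩
    · obtain ⟨i, hi⟩ := IsPGroup.iff_card.mp P.isPGroup'
      rcases i with _ | i
      · omega
      · exact ⟨2 ^ i, by rw [hi, pow_succ, mul_comm]⟩
    rw [← Nat.not_even_iff_odd, even_iff_two_dvd]
    intro h2
    obtain ⟨⟨t, htm⟩, ht⟩ := exists_prime_orderOf_dvd_card' 2 h2
    rw [Subgroup.orderOf_mk] at ht
    obtain ⟨htH, s, hs, hst⟩ := htm
    have hst' : g * s * g⁻¹ = t := hst
    have hso : orderOf s = 2 := by
      rw [← ht, ← hst', ← MulAut.conj_apply, MulEquiv.orderOf_eq]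
    obtain ⟨g₁, hg₁, hu, hu1⟩ := hinv t htH ht
    obtain ⟨g₂, hg₂, hv, hv1⟩ := hinv s hs hso
    have hc : IsConj (g₂ * s * g₂⁻¹) (g₁ * t * g₁⁻¹) := isConj_iff.mpr ⟨g₁ * g * g₂⁻¹, by
      rw [← hst']; group⟩
    obtain ⟨α, hα, e⟩ := exists_aut_of_isConj hab (u := ⟨_, hv⟩) (v := ⟨_, hu⟩) hc
    obtain ⟨⟨m, hm⟩, rfl⟩ := hα
    have e' : m * (g₂ * s * g₂⁻¹) * m⁻¹ = g₁ * t * g₁⁻¹ := congrArg Subtype.val e
    rw [← hst'] at e'
    have hcm : g₂ * g⁻¹ * g₁⁻¹ * m ∈ Subgroup.centralizer ({g₂ * s * g₂⁻¹} : Set G) := by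
      refine Subgroup.mem_centralizer_singleton_iff.mpr (mul_inv_eq_iff_eq_mul.mp ?_)
      calc g₂ * g⁻¹ * g₁⁻¹ * m * (g₂ * s * g₂⁻¹) * (g₂ * g⁻¹ * g₁⁻¹ * m)⁻¹
          = g₂ * g⁻¹ * g₁⁻¹ * (m * (g₂ * s * g₂⁻¹) * m⁻¹) * (g₂ * g⁻¹ * g₁⁻¹)⁻¹ := by group
        _ = g₂ * s * g₂⁻¹ := by rw [e']; group
    have hH1 := hcentH _ hv hv1 hcm
    have hgi : g⁻¹ ∈ H := by
      have h3 := H.mul_mem (H.mul_mem (H.inv_mem hg₂) hH1)
        (H.mul_mem (H.inv_mem (Subgroup.mem_sup_right hm : m ∈ H)) hg₁)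
      rwa [show g₂⁻¹ * (g₂ * g⁻¹ * g₁⁻¹ * m) * (m⁻¹ * g₁) = g⁻¹ by group] at h3
    exact hg (by simpa using H.inv_mem hgi)
  have c : Emb P H π := ⟨hab, hel, hcomm, hfree, hPH, hcentH, fun h u v huv => Subtype.ext (by
    show n h * u * (n h)⁻¹ = v
    rw [he h] at huv
    have hu' := (Subgroup.mem_normalizer_iff.mp (hn h) u).mp u.2
    set q := n h * u * (n h)⁻¹ with hq
    have huv' : w h * q * (w h)⁻¹ = v := by rw [← huv, hq]; group
    have h1 : w h * q * (w h)⁻¹ * q⁻¹ ∈ (P : Subgroup G) := mul_mem (huv' ▸ v.2) (inv_mem hu')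
    have h2 : w h * q * (w h)⁻¹ * q⁻¹ ∈ W := by
      rw [show w h * q * (w h)⁻¹ * q⁻¹ = w h * (q * (w h)⁻¹ * q⁻¹) by group]
      exact mul_mem (hw h) ((Subgroup.mem_normalizer_iff.mp (hNW (hPN hu')) _).mp (inv_mem (hw h)))
    rw [← huv', mul_inv_eq_one.mp (hWP _ h1 h2)]), hse⟩
  exact ⟨H, π, hπ, c⟩

/-- The case in which all non-identity elements are free. -/
theorem regular_case {M : Ideal AlgInt} (hM : IsPModular 2 M) (hab : IsMulCommutative (P : Subgroup G))
    (hfix : ∀ u : (P : Subgroup G), (∀ α ∈ autGrp P, α u = u) → u = 1)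
    (hcomm : ∀ α ∈ autGrp P, ∀ β ∈ autGrp P, α * β = β * α)
    (hfree : ∀ u : (P : Subgroup G), u ≠ 1 → IsFree P u)
    (hcard : Nat.card (P : Subgroup G) = 8 ∨ Nat.card (P : Subgroup G) = 16) :
    (Nat.card (P : Subgroup G) = 8 → Nat.card (principalBlock M G) = 8) ∧
      (Nat.card (P : Subgroup G) = 16 →
        Nat.card (principalBlock M G) = 8 ∨ Nat.card (principalBlock M G) = 16) := by
  classical
  haveI : Fact (Nat.Prime 2) := ⟨Nat.prime_two⟩
  obtain ⟨x, hx⟩ : ∃ x : (P : Subgroup G), x ≠ 1 := by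
    haveI : Nontrivial (P : Subgroup G) := Finite.one_lt_card_iff_nontrivial.mp (by omega)
    exact exists_ne 1
  have hne : ∃ α ∈ autGrp P, α ≠ 1 := by
    by_contra h
    push Not at h
    exact hx (hfix x fun α hα => by rw [h α hα]; rfl)
  have hsplit : ∀ W : Subgroup G, Subgroup.normalizer ((P : Subgroup G) : Set G) ≤
      Subgroup.normalizer (W : Set G) → ∀ g ∈ W ⊔ Subgroup.normalizer ((P : Subgroup G) : Set G),
      ∃ w ∈ W, ∃ n ∈ Subgroup.normalizer ((P : Subgroup G) : Set G), g = w * n := by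
    intro W hNW g hg
    have hg' : g ∈ ((W ⊔ Subgroup.normalizer ((P : Subgroup G) : Set G) : Subgroup G) : Set G) := hg
    rw [Subgroup.coe_mul_of_right_le_normalizer_left W _ hNW] at hg'
    obtain ⟨w, hw, n, hn, e⟩ := Set.mem_mul.mp hg'
    exact ⟨w, hw, n, hn, e.symm⟩
  by_cases hel : ∀ u ∈ (P : Subgroup G), u * u = 1
  · obtain ⟨W, hWodd, hNW, hcent⟩ := exists_signalizer hab hel (by omega) hfree
    set N := Subgroup.normalizer ((P : Subgroup G) : Set G) with hN
    set H := W ⊔ N with hH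
    have hPN : (P : Subgroup G) ≤ N := Subgroup.le_normalizer
    have hcentH : ∀ u ∈ (P : Subgroup G), u ≠ 1 → Subgroup.centralizer ({u} : Set G) ≤ H :=
      fun u hu hu1 => (hcent u hu hu1).trans (sup_le_sup_left hPN W)
    by_cases htop : H = ⊤
    · haveI : W.Normal := Subgroup.normalizer_eq_top_iff.mp (top_le_iff.mp
        (htop ▸ sup_le Subgroup.le_normalizer hNW))
      exact count_of_normal hM hab hcomm hfree hne hWodd fun g =>
        hsplit W hNW g (by rw [← hH, htop]; exact Subgroup.mem_top g)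
    · obtain ⟨H', π, hπ, c⟩ := exists_emb hab hel (by omega) hcomm hfree hWodd hNW hcent htop
      have hk := c.card_principal hπ hM hx
      exact ⟨fun h => hk.trans h, fun h => Or.inr (hk.trans h)⟩
  · push Not at hel
    obtain ⟨h16, ι, hinj, hrange⟩ := exists_homocyclic hab hfix hcard hel
    set O := pPrimeCore 2 G with hO
    set π := QuotientGroup.mk' O
    have hπ : Function.Surjective π := QuotientGroup.mk'_surjective O
    have hPO : ∀ u ∈ (P : Subgroup G), π u = 1 → u = 1 := by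
      intro u hu hu'
      obtain ⟨i, hi⟩ := IsPGroup.iff_orderOf.mp P.isPGroup' ⟨u, hu⟩
      rw [Subgroup.orderOf_mk] at hi
      have h := Fusion.mem_pPrimeCore_orderOf ((QuotientGroup.eq_one_iff u).mp hu')
      rw [hi] at h
      rw [← orderOf_eq_one_iff, hi]
      rcases i with _ | i
      · rfl
      · rw [Nat.coprime_pow_left_iff (Nat.succ_pos _)] at h
        norm_num at h
    haveI : Fintype (G ⧸ O) := Fintype.ofFinite _
    obtain ⟨hn, -, -⟩ := homocyclic_sylow_two (P.mapSurjective hπ) (π.comp ι) (dvd_refl 4)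
      ⟨2, by norm_num⟩ (fun m₁ m₂ e => hinj (by
        have hm : ∀ m, ι m ∈ (P : Subgroup G) := fun m => hrange ▸ ⟨m, rfl⟩
        refine inv_mul_eq_one.mp (hPO _ (mul_mem (inv_mem (hm m₁)) (hm m₂)) ?_)
        rw [map_mul, map_inv]
        exact inv_mul_eq_one.mpr e))
      (by rw [MonoidHom.range_comp, hrange, Sylow.coe_mapSurjective]) fun K hK hKo => by
        haveI := hK
        refine le_bot_iff.mp ?_
        rw [← Fusion.pPrimeCore_quotient_eq_bot (p := 2) (G := G)]
        exact Fusion.le_pPrimeCore (Nat.coprime_two_right.mpr hKo)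
    set L := (P.mapSurjective hπ : Subgroup (G ⧸ O)).comap π with hL
    haveI : L.Normal := hn.comap π
    have hPL : (P : Subgroup G) ≤ L := fun u hu => by
      rw [hL, Sylow.coe_mapSurjective]
      exact ⟨u, hu, rfl⟩
    have hfr := Sylow.normalizer_sup_eq_top (P.subtype hPL)
    rw [Sylow.coe_subtype, Subgroup.map_subgroupOf_eq_of_le hPL] at hfr
    have hOodd : ¬ 2 ∣ Nat.card O :=
      Nat.prime_two.coprime_iff_not_dvd.mp (Fusion.card_pPrimeCore_coprime 2 G).symm
    refine count_of_normal hM hab hcomm hfree hne hOodd fun g => ?_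
    have hNO : Subgroup.normalizer ((P : Subgroup G) : Set G) ≤ Subgroup.normalizer (O : Set G) :=
      le_top.trans (le_of_eq (Subgroup.normalizer_eq_top_iff.mpr inferInstance).symm)
    refine hsplit O hNO g ?_
    have hle : L ≤ O ⊔ Subgroup.normalizer ((P : Subgroup G) : Set G) := by
      intro l hl
      rw [hL, Sylow.coe_mapSurjective] at hl
      obtain ⟨u, hu, e⟩ := hl
      rw [show l = (l * u⁻¹) * u by group]
      refine mul_mem (Subgroup.mem_sup_left ?_) (Subgroup.mem_sup_right (Subgroup.le_normalizer hu))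
      rw [← QuotientGroup.eq_one_iff]
      show π (l * u⁻¹) = 1
      rw [map_mul, map_inv, e, mul_inv_cancel]
    exact (sup_le le_sup_right hle : _ ≤ O ⊔ _) (hfr ▸ Subgroup.mem_top g)

end Cfsg.Agent.Char.FreeInv
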